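import Groth.Agent.EtShLib.Kummer
import Groth.Agent.EtSmAcycLib.AffSpace
import Groth.Prelude.Def_LangSh

/-!
# The covers of Artin–Schreier and Kummer type
-/

set_option autoImplicit false
set_option linter.all false
set_option backward.isDefEq.respectTransparency false
set_option backward.isDefEq.respectTransparency.types false
set_option maxHeartbeats 2000000
set_option synthInstance.maxHeartbeats 400000

universe u

open CategoryTheory CategoryTheory.Limits AlgebraicGeometry Opposite Polynomial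

noncomputable section

namespace LangShLib

variable {R : Type u} [CommRing R] {f : R[X]}

theorem isFinite_cover (hm : f.Monic) :
    IsFinite (LangSh.cover R (AdjoinRoot f)) := by
  haveI := hm.finite_adjoinRoot
  rw [LangSh.cover, IsFinite.SpecMap_iff]
  exact RingHom.finite_algebraMap.2 inferInstance

theorem etale_cover (hm : f.Monic) (hs : f.Separable) :
    AlgebraicGeometry.Etale (LangSh.cover R (AdjoinRoot f)) := by
  haveI := Groth.Agent.EtShLib.etale_adjoinRoot_separable hm hs
  exact (HasRingHomProperty.Spec_iff (P := @AlgebraicGeometry.Etale)).2 (RingHom.etale_algebraMap.2 ‹_›)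

/-- Geometric fibres of a cover by a separable equation have as many points as its degree. -/
theorem natCard_lifts_cover (hm : f.Monic) (hs : f.Separable) {Y : Scheme.{u}} (g : Y ⟶ Spec (CommRingCat.of R))
    (Ω : Type u) [Field Ω] [IsSepClosed Ω] (ξ : Spec (CommRingCat.of Ω) ⟶ Y) :
    Nat.card {v : Spec (CommRingCat.of Ω) ⟶ pullback (LangSh.cover R (AdjoinRoot f)) g //
      v ≫ pullback.snd _ g = ξ} = f.natDegree := by
  let π₀ := LangSh.cover R (AdjoinRoot f)
  let φ : R →+* Ω := (Spec.preimage (ξ ≫ g)).hom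
  have hφ : Spec.map (CommRingCat.ofHom φ) = ξ ≫ g := Spec.map_preimage _
  let e₁ : {v : Spec (CommRingCat.of Ω) ⟶ pullback π₀ g // v ≫ pullback.snd π₀ g = ξ} ≃
      {v : Spec (CommRingCat.of Ω) ⟶ Spec (CommRingCat.of (AdjoinRoot f)) // v ≫ π₀ = ξ ≫ g} :=
    { toFun := fun v => ⟨v.1 ≫ pullback.fst π₀ g, by rw [Category.assoc, pullback.condition, ← Category.assoc, v.2]⟩
      invFun := fun v => ⟨pullback.lift v.1 ξ v.2, pullback.lift_snd _ _ _⟩
      left_inv := fun v => Subtype.ext (pullback.hom_ext (pullback.lift_fst _ _ _)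
        ((pullback.lift_snd _ _ _).trans v.2.symm))
      right_inv := fun v => Subtype.ext (pullback.lift_fst _ _ _) }
  have hv : ∀ v : {v : Spec (CommRingCat.of Ω) ⟶ Spec (CommRingCat.of (AdjoinRoot f)) // v ≫ π₀ = ξ ≫ g},
      (Spec.preimage v.1).hom.comp (algebraMap R (AdjoinRoot f)) = φ := fun v => by
    have h0 : CommRingCat.ofHom (algebraMap R (AdjoinRoot f)) ≫ Spec.preimage v.1 = CommRingCat.ofHom φ :=
      Spec.map_injective (by rw [Spec.map_comp, Spec.map_preimage, hφ]; exact v.2)
    exact congrArg CommRingCat.Hom.hom h0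
  have hroot : ∀ v : {v : Spec (CommRingCat.of Ω) ⟶ Spec (CommRingCat.of (AdjoinRoot f)) // v ≫ π₀ = ξ ≫ g},
      f.eval₂ φ ((Spec.preimage v.1).hom (AdjoinRoot.root f)) = 0 := fun v => by
    have h2 := congrArg (Spec.preimage v.1).hom (AdjoinRoot.eval₂_root f)
    rw [map_zero, Polynomial.hom_eval₂] at h2
    rwa [← AdjoinRoot.algebraMap_eq, hv v] at h2
  let e₂ : {v : Spec (CommRingCat.of Ω) ⟶ Spec (CommRingCat.of (AdjoinRoot f)) // v ≫ π₀ = ξ ≫ g} ≃
      {z : Ω // f.eval₂ φ z = 0} :=
    { toFun := fun v => ⟨(Spec.preimage v.1).hom (AdjoinRoot.root f), hroot v⟩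
      invFun := fun z => ⟨Spec.map (CommRingCat.ofHom (AdjoinRoot.lift φ z.1 z.2)), by
        rw [← hφ, ← Spec.map_comp, ← CommRingCat.ofHom_comp]
        exact congrArg (fun t => Spec.map (CommRingCat.ofHom t)) (RingHom.ext fun r => AdjoinRoot.lift_of z.2)⟩
      left_inv := fun v => Subtype.ext (by
        refine (congrArg Spec.map (CommRingCat.hom_ext ?_)).trans (Spec.map_preimage v.1)
        refine Ideal.Quotient.ringHom_ext (Polynomial.ringHom_ext (fun r => ?_) ?_)
        · exact (AdjoinRoot.lift_of (hroot v)).trans (RingHom.congr_fun (hv v) r).symm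
        · exact AdjoinRoot.lift_root (hroot v))
      right_inv := fun z => Subtype.ext (by simp) }
  rw [Nat.card_congr (e₁.trans e₂)]
  classical
  let h := f.map φ
  have hh : h.Separable := hs.map
  have hne : h ≠ 0 := (hm.map φ).ne_zero
  rw [Nat.card_congr (Equiv.subtypeEquivRight (q := fun z => z ∈ h.roots.toFinset) fun z => by
    rw [Multiset.mem_toFinset, Polynomial.mem_roots hne, Polynomial.IsRoot, Polynomial.eval_map])]
  rw [Nat.card_eq_fintype_card, Fintype.card_coe, Multiset.toFinset_card_of_nodup (Polynomial.nodup_roots hh),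
    ← (IsSepClosed.splits_of_separable h hh).natDegree_eq_card_roots, hm.natDegree_map φ]

variable {k : Type u} [Field k] {K : Type u} [Field K] [Algebra k K] {X₀ Z₀ : Scheme.{u}}

/-- A cover whose source is isomorphic to the base stays so after extension of the ground field. -/
theorem exists_iso_baseChange (a : X₀ ⟶ Spec (CommRingCat.of k)) (π₀ : Z₀ ⟶ X₀) (e₀ : Z₀ ≅ X₀)
    (he₀ : e₀.hom ≫ a = π₀ ≫ a) :
    ∃ e : pullback π₀ (FinFr.extπ K a) ≅ FinFr.ext K a,
      e.hom ≫ FinFr.extStr K a = pullback.snd π₀ (FinFr.extπ K a) ≫ FinFr.extStr K a := by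
  let h₁ := (IsPullback.of_hasPullback π₀ (FinFr.extπ K a)).flip.paste_horiz
    (IsPullback.of_hasPullback a (FinFr.specι k K)).flip
  have h₂ : IsPullback (FinFr.extStr K a) (FinFr.extπ K a ≫ e₀.inv) (FinFr.specι k K) (π₀ ≫ a) := by
    refine (IsPullback.of_hasPullback a (FinFr.specι k K)).flip.of_iso (Iso.refl _) (Iso.refl _) e₀.symm (Iso.refl _)
      ?_ ?_ ?_ ?_
    · simp
    · simp
    · simp
    · simp [← he₀]
  exact ⟨h₁.isoIsPullback _ _ h₂, h₁.isoIsPullback_hom_fst _ _ h₂⟩

variable (k) in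
/-- The source of the Artin–Schreier cover of the line is a line. -/
theorem exists_asIso (q : ℕ) :
    ∃ e : Spec (CommRingCat.of (AdjoinRoot (X ^ q - X - C (X : k[X]) : k[X][X]))) ≅ Spec (CommRingCat.of k[X]),
      e.hom ≫ Spec.map (CommRingCat.ofHom (algebraMap k k[X])) =
        LangSh.cover k[X] (AdjoinRoot (X ^ q - X - C (X : k[X]) : k[X][X])) ≫
          Spec.map (CommRingCat.ofHom (algebraMap k k[X])) := by
  let f : k[X][X] := X ^ q - X - C (X : k[X])
  let A := AdjoinRoot f
  let φ : k[X] →+* A := Polynomial.eval₂RingHom ((algebraMap k[X] A).comp Polynomial.C) (AdjoinRoot.root f)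
  let i : k[X] →+* k[X] := Polynomial.eval₂RingHom Polynomial.C (X ^ q - X)
  let ψ : A →+* k[X] := AdjoinRoot.lift i X (by simp [f, i])
  have hX : AdjoinRoot.of f (X : k[X]) = AdjoinRoot.root f ^ q - AdjoinRoot.root f := by
    have h := AdjoinRoot.eval₂_root f
    simp only [f, eval₂_sub, eval₂_pow, eval₂_X, eval₂_C] at h
    exact (sub_eq_zero.1 h).symm
  have h1 : φ.comp ψ = RingHom.id A := by
    refine Ideal.Quotient.ringHom_ext (Polynomial.ringHom_ext (fun r => ?_) ?_)
    · show φ (ψ (AdjoinRoot.of f r)) = AdjoinRoot.of f r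
      have h2 : φ.comp i = AdjoinRoot.of f := by
        refine Polynomial.ringHom_ext (fun c => ?_) ?_
        · simp [φ, i]
          rfl
        · simp [φ, i]
          exact hX.symm
      rw [show ψ (AdjoinRoot.of f r) = i r from AdjoinRoot.lift_of _]
      exact RingHom.congr_fun h2 r
    · show φ (ψ (AdjoinRoot.root f)) = AdjoinRoot.root f
      rw [show ψ (AdjoinRoot.root f) = X from AdjoinRoot.lift_root _]
      simp [φ]
  have h2 : ψ.comp φ = RingHom.id _ := by
    refine Polynomial.ringHom_ext (fun c => ?_) ?_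
    · simp [φ, ψ]
      show AdjoinRoot.lift i X _ (AdjoinRoot.of f (C c)) = C c
      rw [AdjoinRoot.lift_of]
      simp [i]
    · simp [φ, ψ]
      exact AdjoinRoot.lift_root _
  let e : k[X] ≃+* A := RingEquiv.ofRingHom φ ψ h1 h2
  refine ⟨Scheme.Spec.mapIso e.toCommRingCatIso.op, ?_⟩
  show Spec.map (CommRingCat.ofHom φ) ≫ _ = Spec.map _ ≫ _
  rw [← Spec.map_comp, ← Spec.map_comp]
  refine congrArg Spec.map (CommRingCat.hom_ext (RingHom.ext fun c => ?_))
  show φ (C c) = algebraMap k[X] A (C c)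
  simp [φ]

end LangShLib

end
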