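import Groth.Agent.LangShLib.Main
import Groth.Agent.EtShLib.JContAll
import Groth.Agent.EtShLib.GaloisCover

/-!
# A rank one sheaf trivialised by a cover of `ℓ`-power order is trivial
-/

set_option autoImplicit false
set_option linter.all false
set_option backward.isDefEq.respectTransparency false
set_option backward.isDefEq.respectTransparency.types false
set_option maxHeartbeats 2000000
set_option synthInstance.maxHeartbeats 400000

universe u v

open CategoryTheory CategoryTheory.Limits CategoryTheory.Abelian AlgebraicGeometry Opposite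
open Groth.Agent Groth.Agent.EtShLib

attribute [local instance] EtSliceLib.pullExact

noncomputable section

namespace LangShLib

variable {Λ : Type} [Field Λ] [Finite Λ]

theorem bijective_act {A : Type v} [AddCommGroup A] (ρ : Λ →+* AddMonoid.End A) (hA : Nat.card A = Nat.card Λ)
    (a : A) (ha : a ≠ 0) : Function.Bijective fun r : Λ => ρ r a := by
  haveI : Finite A := Nat.finite_of_card_ne_zero (hA.trans_ne (Nat.card_ne_zero.2 ⟨inferInstance, inferInstance⟩))
  have hinj : Function.Injective fun r : Λ => ρ r a := by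
    intro r s h
    by_contra hne
    have h0 : ρ (r - s) a = 0 := by
      rw [map_sub]; exact sub_eq_zero.2 h
    have h1 : ρ ((r - s)⁻¹ * (r - s)) a = 0 := by
      rw [map_mul]; show ρ (r - s)⁻¹ (ρ (r - s) a) = 0; rw [h0, map_zero]
    rw [inv_mul_cancel₀ (sub_ne_zero.2 hne), map_one] at h1
    exact ha h1
  exact hinj.bijective_of_nat_card_le hA.le

/-- An endomorphism of a line of `ℓ`-power order is the identity in characteristic `ℓ`. -/
theorem fixed_of_pow {A : Type v} [AddCommGroup A] (ρ : Λ →+* AddMonoid.End A) (hA : Nat.card A = Nat.card Λ)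
    (ℓ : ℕ) [Fact ℓ.Prime] [CharP Λ ℓ] (f : A →+ A) (hf : ∀ r a, f (ρ r a) = ρ r (f a)) (b : ℕ)
    (hb : (⇑f)^[ℓ ^ b] = id) : ∀ a, f a = a := by
  intro a₀
  haveI : Finite A := Nat.finite_of_card_ne_zero (hA.trans_ne (Nat.card_ne_zero.2 ⟨inferInstance, inferInstance⟩))
  haveI : Nontrivial A := Finite.one_lt_card_iff_nontrivial.1 (hA ▸ Finite.one_lt_card)
  obtain ⟨a, ha⟩ := exists_ne (0 : A)
  obtain ⟨c, hc⟩ := (bijective_act ρ hA a ha).2 (f a)
  have hiter : ∀ n : ℕ, (⇑f)^[n] a = ρ (c ^ n) a := fun n => by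
    induction n with
    | zero => simp
    | succ n ih =>
      rw [Function.iterate_succ_apply', ih, hf, ← show ρ c a = f a from hc, pow_succ, map_mul]
      rfl
  have h1 : ρ (c ^ ℓ ^ b) a = ρ 1 a := by
    rw [← hiter, hb, map_one]
    rfl
  have hc1 : c = 1 := by
    have h2 : (c - 1) ^ ℓ ^ b = 0 := by
      rw [sub_pow_char_pow, one_pow, sub_eq_zero]
      exact (bijective_act ρ hA a ha).1 h1
    exact sub_eq_zero.1 (pow_eq_zero_iff (pow_ne_zero _ (Fact.out : ℓ.Prime).ne_zero) |>.1 h2)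
  obtain ⟨r, rfl⟩ := (bijective_act ρ hA a ha).2 a₀
  show f (ρ r a) = ρ r a
  rw [hf, ← show ρ c a = f a from hc, hc1, map_one]
  rfl

variable {U : Scheme.{u}} (F : EtLam.Sheaf Λ U)

/-- The action on sections. -/
def actSect (W : U.Etale) : Λ →+* AddMonoid.End (F.carrier.obj.obj (op W)) where
  toFun r := ((F.act r).hom.app (op W)).hom
  map_one' := by rw [map_one, End.one_def]; rfl
  map_mul' r s := by rw [map_mul, End.mul_def]; rfl
  map_zero' := by rw [map_zero]; rfl
  map_add' r s := by rw [map_add]; rfl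

theorem res_actSect {V W : U.Etale} (g : V ⟶ W) (r : Λ) (s : F.carrier.obj.obj (op W)) :
    F.carrier.obj.map g.op (actSect F W r s) = actSect F V r (F.carrier.obj.map g.op s) :=
  (NatTrans.naturality_apply (F.act r).hom g.op s).symm

variable (Y : U.Etale) [ConnectedSpace Y.left] [IsFinite Y.hom]
  (eY : (EtCoh.pull Y.hom).obj F.carrier ≅ EtCoh.const Y.left Λ)

include eY in
theorem natCard_sect : Nat.card (F.carrier.obj.obj (op Y)) = Nat.card Λ := by
  haveI := jCont Y.hom
  haveI : AlgebraicGeometry.Etale Y.hom := Y.prop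
  obtain ⟨r⟩ := nonempty_pull_iso_restrAlong Y.hom F.carrier
  obtain ⟨hT⟩ := isTerminal_top Y.left
  obtain ⟨e₁⟩ := EtPnCohLib.nonempty_H_congr (r.symm ≪≫ eY) 0
  obtain ⟨e₂⟩ := EtSmAcycLib.nonempty_H_zero_const_connected (Y := Y.left) Λ
  let i : (EtShriek.compEtale Y.hom).obj (EtCoh.top Y.left) ≅ Y :=
    MorphismProperty.Over.isoMk (Iso.refl _) (by
      show 𝟙 _ ≫ Y.hom = (𝟙 _ : Y.left ⟶ Y.left) ≫ Y.hom
      rfl)
  exact Nat.card_congr (((F.carrier.obj.mapIso i.op).addCommGroupIsoToAddEquiv.trans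
    ((Sheaf.H.equiv₀ ((EtShriek.restrAlong Y.hom).obj F.carrier) hT).symm)).trans (e₁.trans e₂)).toEquiv

include eY in
/-- **Descent of triviality.** -/
theorem nonempty_iso_const [ConnectedSpace U] (hY : Function.Surjective Y.hom.base) (ℓ : ℕ) [Fact ℓ.Prime]
    [CharP Λ ℓ] {ι : Type u} (σ : ι → (Y ⟶ Y)) (b : ℕ)
    (hσ : ∀ i, (fun g : Y ⟶ Y => g ≫ σ i)^[ℓ ^ b] (𝟙 Y) = 𝟙 Y)
    (hgraph : ∀ (Ω : Type u) [Field Ω] [IsSepClosed Ω] (ξ : Spec (CommRingCat.of Ω) ⟶ U) (y₁ y₂ : Fib ξ Y),
      ∃ i, y₁.map (σ i) = y₂) :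
    Nonempty (F.carrier ≅ EtCoh.const U Λ) := by
  let P := F.carrier
  have hA := natCard_sect F Y eY
  -- invariance
  have hinv : ∀ i (s : P.obj.obj (op Y)), P.obj.map (σ i).op s = s := fun i => by
    refine fixed_of_pow (actSect F Y) hA ℓ (P.obj.map (σ i).op).hom (fun r a => res_actSect F (σ i) r a) b ?_
    have hit : ∀ n : ℕ, (⇑(P.obj.map (σ i).op).hom)^[n] =
        fun s => P.obj.map ((fun g : Y ⟶ Y => g ≫ σ i)^[n] (𝟙 Y)).op s := fun n => by
      induction n with
      | zero => funext s; simp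
      | succ n ih =>
        funext s
        rw [Function.iterate_succ_apply, ih, Function.iterate_succ_apply']
        rw [op_comp, Functor.map_comp, ConcreteCategory.comp_apply]
    rw [hit, hσ i]
    funext s
    simp
  -- descent
  let π := (EtCore.topIsTerminal U).from Y
  have hcompat : ∀ (s : P.obj.obj (op Y)) {Z : U.Etale} (p q : Z ⟶ Y), P.obj.map p.op s = P.obj.map q.op s := by
    intro s Z p q
    refine eq_of_germ (A := AddCommGrpCat.{u + 1}) P _ _ fun Ω _ _ ξ z => ?_
    rw [germ_res_apply, germ_res_apply]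
    obtain ⟨i, hi⟩ := hgraph Ω ξ (z.map p) (z.map q)
    conv_lhs => rw [← hinv i s, germ_res_apply, hi]
  have hsh := (isSheaf_iff_isSheaf_of_type _ _).1
    ((Presheaf.isSheaf_iff_isSheaf_forget _ _ (forget AddCommGrpCat.{u + 1})).1 P.property)
  have hs : π.left.base.hom.toFun.Surjective := by
    have h : π.left = Y.hom := (Category.comp_id _).symm.trans (MorphismProperty.Over.w π)
    rw [h]; exact hY
  have hmem : Sieve.generate (Presieve.singleton π) ∈ U.smallEtaleTopology (EtCoh.top U) := by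
    refine GrothendieckTopology.superset_covering _ ?_
      ((Scheme.ofArrows_mem_smallEtaleTopology_iff (fun _ : PUnit.{u + 1} => π)).2
        (Set.eq_univ_of_forall fun y => Set.mem_iUnion.2 ⟨PUnit.unit, hs y⟩))
    rw [Sieve.generate_le_iff]
    rintro Z q ⟨_⟩
    exact ⟨_, 𝟙 _, _, Presieve.singleton_self _, Category.id_comp _⟩
  have hsingle : Presieve.IsSheafFor (P.obj ⋙ forget AddCommGrpCat.{u + 1}) (Presieve.singleton π) :=
    (Presieve.isSheafFor_iff_generate _).2 (hsh _ hmem)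
  have hbij : Function.Bijective (P.obj.map π.op) := by
    constructor
    · intro a a' h
      exact ((Presieve.isSheafFor_singleton.1 hsingle) (P.obj.map π.op a') (fun p q _ => hcompat _ p q)).unique h rfl
    · intro s
      obtain ⟨t, ht⟩ := ((Presieve.isSheafFor_singleton.1 hsingle) s (fun p q _ => hcompat s p q)).exists
      exact ⟨t, ht⟩
  have hTop : Nat.card (P.obj.obj (op (EtCoh.top U))) = Nat.card Λ := (Nat.card_eq_of_bijective _ hbij).trans hA
  haveI hfinT : Finite (P.obj.obj (op (EtCoh.top U))) :=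
    Nat.finite_of_card_ne_zero (hTop.trans_ne (Nat.card_ne_zero.2 ⟨inferInstance, inferInstance⟩))
  haveI : Nontrivial (P.obj.obj (op (EtCoh.top U))) := Finite.one_lt_card_iff_nontrivial.1 (hTop ▸ Finite.one_lt_card)
  obtain ⟨t, ht⟩ := exists_ne (0 : P.obj.obj (op (EtCoh.top U)))
  -- the comparison map
  let C := EtCoh.const U Λ
  let m : AddCommGrpCat.of (ULift.{u + 1} Λ) ⟶ P.obj.obj (op (EtCoh.top U)) :=
    AddCommGrpCat.ofHom (AddMonoidHom.mk' (fun r => actSect F _ r.down t) fun r s => by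
      show actSect F _ (r.down + s.down) t = _
      rw [map_add]; rfl)
  let φ : C ⟶ P := ((EtCore.constAdj U).homEquiv _ _).symm m
  let η := (EtCore.constAdj U).unit.app (AddCommGrpCat.of (ULift.{u + 1} Λ))
  have hφ : ∀ r, φ.hom.app (op (EtCoh.top U)) (η r) = m r := fun r => by
    have e : η ≫ (EtCore.gsec U).map φ = m :=
      ((EtCore.constAdj U).homEquiv_unit _ _ _).symm.trans (Equiv.apply_symm_apply _ _)
    exact ConcreteCategory.congr_hom e r
  have hm : Function.Bijective m :=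
    (bijective_act (actSect F _) hTop t ht).comp (Equiv.ulift (α := Λ)).bijective
  obtain ⟨hT⟩ := isTerminal_top U
  obtain ⟨eC⟩ := EtSmAcycLib.nonempty_H_zero_const_connected (Y := U) Λ
  let eCtop := (Sheaf.H.equiv₀ C hT).symm.trans eC
  haveI : Finite (C.obj.obj (op (EtCoh.top U))) := Finite.of_equiv _ eCtop.symm.toEquiv
  have hφsurj : Function.Surjective (φ.hom.app (op (EtCoh.top U))) := fun y => by
    obtain ⟨r, hr⟩ := hm.2 y
    exact ⟨η r, (hφ r).trans hr⟩
  have hφtop : Function.Bijective (φ.hom.app (op (EtCoh.top U))) :=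
    hφsurj.bijective_of_nat_card_le (((Nat.card_congr eCtop.toEquiv).trans hTop.symm).le)
  have hφH : Function.Bijective (Sheaf.H.map φ 0) := by
    have e : ⇑(Sheaf.H.map φ 0) = (Sheaf.H.equiv₀ P hT).symm ∘ φ.hom.app (op (EtCoh.top U)) ∘ Sheaf.H.equiv₀ C hT :=
      funext fun x => ((Sheaf.H.equiv₀ P hT).symm_apply_eq.2 (Sheaf.H.equiv₀_naturality hT φ x)).symm
    rw [e]
    exact (Sheaf.H.equiv₀ P hT).symm.bijective.comp (hφtop.comp (Sheaf.H.equiv₀ C hT).bijective)
  -- on the cover
  haveI : Surjective Y.hom := ⟨hY⟩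
  let ψ : EtCoh.const Y.left Λ ⟶ EtCoh.const Y.left Λ :=
    (EtCore.pullConst Y.hom Λ).inv ≫ (EtCoh.pull Y.hom).map φ ≫ eY.hom
  obtain ⟨eY₀⟩ := EtSmAcycLib.nonempty_H_zero_const_connected (Y := Y.left) Λ
  haveI : Finite (EtCoh.H Y.left (EtCoh.const Y.left Λ) 0) := Finite.of_equiv _ eY₀.symm.toEquiv
  let aC := fun x : EtCoh.H U C 0 => Sheaf.H.map (EtCore.pullConst Y.hom Λ).hom 0 (EtCore.Hpull Y.hom C 0 x)
  have hψ : ∀ x, Sheaf.H.map ψ 0 (aC x) = Sheaf.H.map eY.hom 0 (EtCore.Hpull Y.hom P 0 (Sheaf.H.map φ 0 x)) := fun x => by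
    show Sheaf.H.map ψ 0 (Sheaf.H.map (EtCore.pullConst Y.hom Λ).hom 0 _) = _
    refine (Sheaf.H.map_comp_apply _ _ _).symm.trans ?_
    refine Eq.trans ?_ (congrArg (Sheaf.H.map eY.hom 0) (EtCore.Hpull_natural Y.hom φ 0 x).symm)
    refine Eq.trans ?_ (Sheaf.H.map_comp_apply _ _ _)
    simp only [ψ, Iso.hom_inv_id_assoc]
    rfl
  have hψbij : Function.Bijective (Sheaf.H.map ψ 0) := by
    have heY : Function.Injective (Sheaf.H.map eY.hom 0) :=
      ((EtCoh.HF Y.left 0).mapIso eY).addCommGroupIsoToAddEquiv.injective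
    have hcomp : Function.Injective fun x => Sheaf.H.map ψ 0 (aC x) := fun x x' h => by
      have h' : Sheaf.H.map ψ 0 (aC x) = Sheaf.H.map ψ 0 (aC x') := h
      rw [hψ, hψ] at h'
      exact hφH.1 (injective_Hpull_zero Y.hom P (heY h'))
    haveI : Finite (EtCoh.H U C 0) := Finite.of_equiv _ eC.symm.toEquiv
    have hb := hcomp.bijective_of_nat_card_le
      ((Nat.card_congr eY₀.toEquiv).trans (Nat.card_congr eC.toEquiv).symm).le
    exact Finite.surjective_iff_bijective.1 fun y => (hb.2 y).imp' aC fun x hx => hx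
  haveI : IsIso ψ := by
    obtain ⟨hT'⟩ := isTerminal_top Y.left
    let η' := (EtCore.constAdj Y.left).unit.app (AddCommGrpCat.of (ULift.{u + 1} Λ))
    have hη' : Function.Bijective η' := by
      have hc : ∀ r r', η' r = η' r' → r = r' := fun r r' h => by
        obtain ⟨y₀⟩ := (inferInstance : Nonempty Y.left)
        have e : η' = EtShLib.cstUnit Y.left _ := by simp [η', EtCore.constAdj, EtShLib.cstUnit, constantSheafAdj]
        rw [e] at h
        have h2 := congrArg ((EtCoh.const Y.left Λ).obj.map (AicVanishLib.toTop (AicVanishLib.zobj (⊤ : Y.left.Opens))).op) h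
        exact ULift.ext _ _ (AicVanishLib.cst_injective Λ (U := ⊤) (x := y₀) trivial h2)
      haveI : Finite ((constantSheaf Y.left.smallEtaleTopology AddCommGrpCat.{u + 1} ⋙ EtCore.gsec Y.left).obj (AddCommGrpCat.of (ULift.{u + 1} Λ))) :=
        Finite.of_equiv _ (eY₀.symm.trans (Sheaf.H.equiv₀ _ hT')).toEquiv
      exact Function.Injective.bijective_of_nat_card_le hc
        ((Nat.card_congr ((Sheaf.H.equiv₀ _ hT').symm.trans eY₀).toEquiv).trans (Nat.card_congr Equiv.ulift).symm).le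
    haveI : IsIso η' := (ConcreteCategory.isIso_iff_bijective _).2 hη'
    let mm := (EtCore.constAdj Y.left).homEquiv _ _ ψ
    have hmm : ψ = (constantSheaf Y.left.smallEtaleTopology AddCommGrpCat.{u + 1}).map (mm ≫ inv η') := by
      apply ((EtCore.constAdj Y.left).homEquiv _ _).injective
      rw [Adjunction.homEquiv_unit (EtCore.constAdj Y.left) _ _ ((constantSheaf _ _).map _), ← Functor.comp_map]
      erw [← (EtCore.constAdj Y.left).unit.naturality]
      exact (Category.assoc _ _ _).trans (by rw [IsIso.inv_hom_id, Category.comp_id]) |>.symm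
    have hψtop : Function.Bijective (ψ.hom.app (op (EtCoh.top Y.left))) := by
      have e : ⇑(ψ.hom.app (op (EtCoh.top Y.left))) =
          Sheaf.H.equiv₀ _ hT' ∘ Sheaf.H.map ψ 0 ∘ (Sheaf.H.equiv₀ _ hT').symm := funext fun s => by
        refine Eq.trans ?_ (Sheaf.H.equiv₀_naturality hT' ψ _)
        rw [AddEquiv.apply_symm_apply]
      rw [e]
      exact (Sheaf.H.equiv₀ _ hT').bijective.comp (hψbij.comp (Sheaf.H.equiv₀ _ hT').symm.bijective)
    haveI : IsIso mm := by
      rw [show mm = η' ≫ (EtCore.gsec Y.left).map ψ from (EtCore.constAdj Y.left).homEquiv_unit _ _ _]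
      haveI : IsIso ((EtCore.gsec Y.left).map ψ) := (ConcreteCategory.isIso_iff_bijective _).2 hψtop
      infer_instance
    rw [hmm]
    infer_instance
  haveI : IsIso ((EtCoh.pull Y.hom).map φ) := by
    have h : (EtCoh.pull Y.hom).map φ = (EtCore.pullConst Y.hom Λ).hom ≫ ψ ≫ eY.inv := by simp [ψ]
    rw [h]; infer_instance
  haveI : IsIso φ := isIso_of_stalks (A := AddCommGrpCat.{u + 1}) _ fun Ω _ _ ξ => by
    haveI : AlgebraicGeometry.Etale Y.hom := Y.prop
    obtain ⟨y, hy⟩ := hY (ξ.base default)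
    obtain ⟨ζ, hζ, -⟩ := Scheme.exists_fac_of_etale_of_isSepClosed Y.hom ξ y hy
    subst hζ
    exact (NatIso.isIso_map_iff (stalkPull Y.hom ζ AddCommGrpCat.{u + 1}) φ).2
      (inferInstanceAs (IsIso ((stk (A := AddCommGrpCat.{u + 1}) ζ).map ((EtCoh.pull Y.hom).map φ))))
  exact ⟨(asIso φ).symm⟩

end LangShLib

end
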