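import Groth.Agent.EtContLib.PullSys
import Groth.Agent.EtBlowSqLib.Square
import Groth.Agent.HmapLib.Comp
import Groth.Agent.EtPnCohLib.Punct
import Groth.Prelude.Def_LangSh

/-!
# Restriction of Frobenius-equivariant global sections to rational points
-/

set_option autoImplicit false
set_option linter.all false
set_option backward.isDefEq.respectTransparency false
set_option backward.isDefEq.respectTransparency.types false
set_option maxHeartbeats 2000000
set_option synthInstance.maxHeartbeats 400000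

universe u

open CategoryTheory CategoryTheory.Limits CategoryTheory.Abelian AlgebraicGeometry Opposite
open Groth.Agent Groth.Agent.EtShLib DescSecLib

attribute [local instance] EtSliceLib.pullExact

noncomputable section

namespace LangShLib

variable {S : Scheme.{u}}

/-- The cocycle identity of the composition isomorphisms. -/
theorem c_assoc {X Y W : Scheme.{u}} (f : X ⟶ Y) (g : Y ⟶ W) (fg : X ⟶ W) (hfg : f ≫ g = fg) (t : W ⟶ S)
    (gt : Y ⟶ S) (hgt : g ≫ t = gt) (f₀ : X ⟶ S) (h1 : f ≫ gt = f₀) (h2 : fg ≫ t = f₀) (F : EtCoh.Ab S) :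
    (EtCoh.pull f).map ((etSys.c g t gt hgt).app F) ≫ (etSys.c f gt f₀ h1).app F =
      (etSys.c f g fg hfg).app ((EtCoh.pull t).obj F) ≫ (etSys.c fg t f₀ h2).app F := by
  subst hfg
  have e := etSys.θ_comp F (Over.homMk f h1 : Over.mk f₀ ⟶ Over.mk gt) (Over.homMk g hgt : Over.mk gt ⟶ Over.mk t)
  have tc : ∀ {U V : Over S} (φ : U ⟶ V), etSys.θ F φ = (etSys.c φ.left V.hom U.hom (Over.w φ)).app F :=
    fun φ => EtContLib.theta_eq_c F φ
  rw [tc, tc, tc] at e
  exact e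

theorem HpullVia_eq_c {X Y : Scheme.{u}} (F : EtCoh.Ab S) (f : X ⟶ Y) (t : Y ⟶ S) (f₀ : X ⟶ S) (w : f ≫ t = f₀)
    [PreservesFiniteLimits (EtCoh.pull f)] (n : ℕ) (x : EtCoh.H Y ((EtCoh.pull t).obj F) n) :
    EtCore.HpullVia f t f₀ w F n x =
      (EtCore.Hpull f _ n x).comp (Ext.mk₀ ((etSys.c f t f₀ w).app F)) (add_zero n) := by
  show (EtCore.Hpull f _ n x).comp
      (Ext.mk₀ (((EtCore.pullComp f t).symm ≪≫ EtCore.pullCongr w).app F).hom) (add_zero n) = _
  rw [EtSliceLib.pullComp_inv_eq]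

/-- Transitivity of `HpullVia`. -/
theorem HpullVia_trans {X Y W : Scheme.{u}} (F : EtCoh.Ab S) (f : X ⟶ Y) (g : Y ⟶ W) (h : X ⟶ W) (hh : f ≫ g = h)
    (t : W ⟶ S) (t' : Y ⟶ S) (f₀ : X ⟶ S) (w : g ≫ t = t') (w' : f ≫ t' = f₀) (w'' : h ≫ t = f₀)
    [PreservesFiniteLimits (EtCoh.pull f)] [PreservesFiniteLimits (EtCoh.pull g)] [PreservesFiniteLimits (EtCoh.pull h)]
    (n : ℕ) (x : EtCoh.H W ((EtCoh.pull t).obj F) n) :
    EtCore.HpullVia f t' f₀ w' F n (EtCore.HpullVia g t t' w F n x) = EtCore.HpullVia h t f₀ w'' F n x := by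
  rw [HpullVia_eq_c, HpullVia_eq_c, HpullVia_eq_c, EtAcycLib.Hpull_postcomp, Ext.comp_assoc_of_second_deg_zero,
    Ext.mk₀_comp_mk₀, c_assoc f g h hh t t' w f₀ w' w'' F, ← Ext.mk₀_comp_mk₀, ← Ext.comp_assoc_of_second_deg_zero,
    CovDevLib.Hpull_comp f g h hh ((EtCoh.pull t).obj F) n x]

/-- `HpullVia` after a change of the sheaf along a composition isomorphism. -/
theorem HpullVia_c {X Y W : Scheme.{u}} (f : X ⟶ Y) (g : Y ⟶ W) (fg : X ⟶ W) (hfg : f ≫ g = fg) (t : W ⟶ S)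
    (gt : Y ⟶ S) (hgt : g ≫ t = gt) (f₀ : X ⟶ S) (h1 : f ≫ gt = f₀) (h2 : fg ≫ t = f₀) (F : EtCoh.Ab S)
    (n : ℕ) (x : EtCoh.H Y ((EtCoh.pull g).obj ((EtCoh.pull t).obj F)) n) :
    EtCore.HpullVia f gt f₀ h1 F n (x.comp (Ext.mk₀ ((etSys.c g t gt hgt).app F)) (add_zero n)) =
      (EtCore.HpullVia f g fg hfg ((EtCoh.pull t).obj F) n x).comp
        (Ext.mk₀ ((etSys.c fg t f₀ h2).app F)) (add_zero n) := by
  show (EtCore.Hpull f _ n (x.comp _ _)).comp
      (Ext.mk₀ (((EtCore.pullComp f gt).symm ≪≫ EtCore.pullCongr h1).app F).hom) (add_zero n) =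
    ((EtCore.Hpull f _ n x).comp
      (Ext.mk₀ (((EtCore.pullComp f g).symm ≪≫ EtCore.pullCongr hfg).app ((EtCoh.pull t).obj F)).hom) (add_zero n)).comp
      _ (add_zero n)
  rw [EtSliceLib.pullComp_inv_eq, EtSliceLib.pullComp_inv_eq, EtAcycLib.Hpull_postcomp,
    Ext.comp_assoc_of_second_deg_zero, Ext.comp_assoc_of_second_deg_zero, Ext.mk₀_comp_mk₀, Ext.mk₀_comp_mk₀,
    c_assoc f g fg hfg t gt hgt f₀ h1 h2 F]

variable {k : Type u} [Field k] {k' : Type u} [Field k'] [Algebra k k'] {K : Type u} [Field K] [Algebra k K]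
  [Algebra k' K] [IsScalarTower k k' K] {X₀ : Scheme.{u}}
  (a : X₀ ⟶ Spec (CommRingCat.of k)) (x : Spec (CommRingCat.of k') ⟶ X₀) (hx : x ≫ a = FinFr.specι k k')
  {Λ : Type} [CommRing Λ] [Fact FinFr.PullExact.{u}] (L : EtLam.Sheaf Λ X₀)

include hx in
/-- The point with values in the top field, as a point of the base extension. -/
def qMap : FinFr.ext K (𝟙 (Spec (CommRingCat.of k'))) ⟶ FinFr.ext K a :=
  pullback.lift (FinFr.extπ K (𝟙 _) ≫ x) (FinFr.extStr K (𝟙 _)) (by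
    have h1 : FinFr.extπ K (𝟙 (Spec (CommRingCat.of k'))) = FinFr.extStr K (𝟙 _) ≫ FinFr.specι k' K :=
      (Category.comp_id _).symm.trans pullback.condition
    rw [Category.assoc, hx, h1, Category.assoc]
    congr 1
    rw [FinFr.specι, FinFr.specι, FinFr.specι, ← Spec.map_comp, ← CommRingCat.ofHom_comp,
      ← IsScalarTower.algebraMap_eq])

theorem qMap_fst : qMap (K := K) a x hx ≫ FinFr.extπ K a = FinFr.extπ K (𝟙 _) ≫ x := pullback.lift_fst _ _ _

theorem qMap_snd : qMap (K := K) a x hx ≫ FinFr.extStr K a = FinFr.extStr K (𝟙 _) := pullback.lift_snd _ _ _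

include hx in
theorem qMap_galAct (σ : K ≃ₐ[k'] K) :
    FinFr.galAct (𝟙 _) σ ≫ qMap a x hx = qMap a x hx ≫ FinFr.galAct a (σ.restrictScalars k) := by
  apply pullback.hom_ext
  · rw [Category.assoc, Category.assoc, FinFr.galAct_fst, qMap_fst, ← Category.assoc, FinFr.galAct_fst]
  · rw [Category.assoc, Category.assoc]
    show FinFr.galAct (𝟙 _) σ ≫ qMap a x hx ≫ FinFr.extStr K a =
      qMap a x hx ≫ FinFr.galAct a (σ.restrictScalars k) ≫ FinFr.extStr K a
    rw [qMap_snd, FinFr.galAct_snd, FinFr.galAct_snd, ← Category.assoc, qMap_snd]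
    rfl

/-- The composition isomorphism at a point. -/
def ptIso : (EtCoh.pull x ⋙ EtCoh.pull (FinFr.extπ K (𝟙 (Spec (CommRingCat.of k'))))).obj L.carrier ≅
    (EtCoh.pull (FinFr.extπ K (𝟙 (Spec (CommRingCat.of k'))) ≫ x)).obj L.carrier :=
  asIso ((etSys.c (FinFr.extπ K (𝟙 (Spec (CommRingCat.of k')))) x _ rfl).app L.carrier)

/-- Restriction of classes to a rational point. -/
def res (n : ℕ) : EtCoh.H (FinFr.ext K a) ((EtCoh.pull (FinFr.extπ K a)).obj L.carrier) n →+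
    EtCoh.H (FinFr.ext K (𝟙 (Spec (CommRingCat.of k'))))
      ((EtCoh.pull (FinFr.extπ K (𝟙 (Spec (CommRingCat.of k'))))).obj ((EtCoh.pull x).obj L.carrier)) n :=
  (Sheaf.H.map (ptIso x L).inv n).comp
    (EtCore.HpullVia (qMap a x hx) (FinFr.extπ K a) _ (qMap_fst a x hx) L.carrier n)

theorem res_galH (σ : K ≃ₐ[k'] K) (n : ℕ) (s : EtCoh.H (FinFr.ext K a) ((EtCoh.pull (FinFr.extπ K a)).obj L.carrier) n) :
    res a x hx L n (FinFr.galH a (σ.restrictScalars k) L.carrier n s) =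
      FinFr.galH (𝟙 _) σ ((EtCoh.pull x).obj L.carrier) n (res a x hx L n s) := by
  apply ((EtCoh.HF _ n).mapIso (ptIso x L)).addCommGroupIsoToAddEquiv.injective
  show Sheaf.H.map (ptIso x L).hom n (Sheaf.H.map (ptIso x L).inv n _) =
    Sheaf.H.map (ptIso x L).hom n (FinFr.galH (𝟙 _) σ _ n (Sheaf.H.map (ptIso x L).inv n _))
  rw [← Sheaf.H.map_comp_apply, Iso.inv_hom_id, Sheaf.H.map_id_apply]
  let w₁ : FinFr.galAct (𝟙 (Spec (CommRingCat.of k'))) σ ≫ (FinFr.extπ K (𝟙 _) ≫ x) = FinFr.extπ K (𝟙 _) ≫ x := by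
    rw [← Category.assoc, FinFr.galAct_fst]
  have key := HpullVia_c (FinFr.galAct (𝟙 (Spec (CommRingCat.of k'))) σ) (FinFr.extπ K (𝟙 _)) (FinFr.extπ K (𝟙 _))
    (FinFr.galAct_fst _ σ) x _ rfl _ w₁ rfl L.carrier n
    (Sheaf.H.map (ptIso x L).inv n
      (EtCore.HpullVia (qMap a x hx) (FinFr.extπ K a) _ (qMap_fst a x hx) L.carrier n s))
  refine Eq.trans ?_ key
  have e1 : (Sheaf.H.map (ptIso x L).inv n
      (EtCore.HpullVia (qMap a x hx) (FinFr.extπ K a) _ (qMap_fst a x hx) L.carrier n s)).comp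
      (Ext.mk₀ (ptIso x L).hom) (add_zero n) =
      EtCore.HpullVia (qMap a x hx) (FinFr.extπ K a) _ (qMap_fst a x hx) L.carrier n s := by
    rw [← Sheaf.H.map_apply, ← Sheaf.H.map_comp_apply, Iso.inv_hom_id, Sheaf.H.map_id_apply]
  erw [e1]
  show EtCore.HpullVia _ _ _ _ L.carrier n (EtCore.HpullVia (FinFr.galAct a (σ.restrictScalars k)) _ _ _ L.carrier n s) = _
  rw [HpullVia_trans L.carrier _ _ (qMap a x hx ≫ FinFr.galAct a (σ.restrictScalars k)) rfl _ _ _ _ _
    (by rw [Category.assoc, FinFr.galAct_fst, qMap_fst]),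
    HpullVia_trans L.carrier _ _ (qMap a x hx ≫ FinFr.galAct a (σ.restrictScalars k)) (qMap_galAct a x hx σ) _ _ _ _ _
      (by rw [Category.assoc, FinFr.galAct_fst, qMap_fst])]

theorem res_smul (n : ℕ) (r : Λ) (s : EtCoh.H (FinFr.ext K a) ((EtCoh.pull (FinFr.extπ K a)).obj L.carrier) n) :
    res a x hx L n (Sheaf.H.map ((EtCoh.pull (FinFr.extπ K a)).map (L.act r)) n s) =
      Sheaf.H.map ((EtCoh.pull (FinFr.extπ K (𝟙 _))).map ((EtCoh.pull x).map (L.act r))) n (res a x hx L n s) := by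
  show Sheaf.H.map (ptIso x L).inv n (EtCore.HpullVia _ _ _ _ L.carrier n _) = _
  rw [EtCore.HpullVia_natural]
  refine ((Sheaf.H.map_comp_apply _ _ _).symm.trans ?_).trans (Sheaf.H.map_comp_apply _ _ _)
  refine congrArg (fun φ => Sheaf.H.map φ n
    (EtCore.HpullVia (qMap a x hx) (FinFr.extπ K a) _ (qMap_fst a x hx) L.carrier n s)) ?_
  rw [Iso.eq_inv_comp, ← Category.assoc, Iso.comp_inv_eq]
  exact ((etSys.c (FinFr.extπ K (𝟙 (Spec (CommRingCat.of k')))) x _ rfl).naturality (L.act r)).symm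

/-- An additive map compatible with the actions, as a linear map. -/
def mkLin {X Y : Scheme.{u}} (L₁ : EtLam.Sheaf Λ X) (L₂ : EtLam.Sheaf Λ Y) (n : ℕ)
    (f : EtCoh.H X L₁.carrier n →+ EtCoh.H Y L₂.carrier n)
    (h : ∀ (r : Λ) (s : EtCoh.H X L₁.carrier n), f (Sheaf.H.map (L₁.act r) n s) = Sheaf.H.map (L₂.act r) n (f s)) :
    EtCoh.H X L₁.carrier n →ₗ[Λ] EtCoh.H Y L₂.carrier n :=
  { f with map_smul' := fun r s => h r s }

theorem mkLin_bijective {X Y : Scheme.{u}} {L₁ : EtLam.Sheaf Λ X} {L₂ : EtLam.Sheaf Λ Y} {n : ℕ}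
    {f : EtCoh.H X L₁.carrier n →+ EtCoh.H Y L₂.carrier n}
    {h : ∀ (r : Λ) (s : EtCoh.H X L₁.carrier n), f (Sheaf.H.map (L₁.act r) n s) = Sheaf.H.map (L₂.act r) n (f s)}
    (hb : Function.Bijective f) : Function.Bijective (mkLin L₁ L₂ n f h) := hb

theorem trace_eq_of_bijective {R M N : Type*} [CommRing R] [AddCommGroup M] [Module R M] [AddCommGroup N] [Module R N]
    (f : M →ₗ[R] N) (hf : Function.Bijective f) (A : M →ₗ[R] M) (B : N →ₗ[R] N) (h : ∀ s, f (A s) = B (f s)) :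
    LinearMap.trace R N B = LinearMap.trace R M A := by
  let e := LinearEquiv.ofBijective f hf
  rw [← LinearMap.trace_conj' A e]
  refine congrArg _ (LinearMap.ext fun t => ?_)
  obtain ⟨s, rfl⟩ := e.surjective t
  rw [LinearEquiv.conj_apply_apply, e.symm_apply_apply]
  exact (h s).symm

theorem arith_restrictScalars [Fintype k] [Fintype k'] [Algebra.IsAlgebraic k K] [Algebra.IsAlgebraic k' K]
    (h : Fintype.card k' = Fintype.card k) :
    (FinFr.arith k' K).symm.restrictScalars k = (FinFr.arith k K).symm := by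
  refine AlgEquiv.ext fun z => (FinFr.arith k K).injective ?_
  rw [AlgEquiv.apply_symm_apply]
  show ((FinFr.arith k' K).symm z) ^ Fintype.card k = z
  rw [← h]
  exact (FinFr.arith k' K).apply_symm_apply z

/-- A bijective restriction identifies the Frobenius of the point with the global one. -/
theorem locTrace_eq [Fintype k] [Algebra.IsAlgebraic k K] [Fintype k'] [Algebra.IsAlgebraic k' K]
    (hcard : Fintype.card k' = Fintype.card k)
    (hb : Function.Bijective (res (K := K) a x hx L 0)) :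
    FinFr.locTrace (K := K) x L = LinearMap.trace Λ _ (FinFr.frob (K := K) a L 0) :=
  trace_eq_of_bijective (mkLin (EtLam.pullback (FinFr.extπ K a) L)
      (EtLam.pullback (FinFr.extπ K (𝟙 _)) (EtLam.pullback x L)) 0 (res a x hx L 0) (res_smul a x hx L 0))
    (mkLin_bijective hb) (FinFr.frob (K := K) a L 0) (FinFr.locFrob (K := K) x L)
    (fun s => by
      have h := res_galH a x hx L (FinFr.arith k' K).symm 0 s
      rw [arith_restrictScalars hcard] at h
      exact h)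

end LangShLib

end
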