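import Groth.Agent.LangShLib.Cover
import Mathlib.Algebra.Polynomial.Laurent

/-!
# Kummer covers of the punctured line
-/

set_option autoImplicit false
set_option linter.all false
set_option backward.isDefEq.respectTransparency false
set_option backward.isDefEq.respectTransparency.types false
set_option maxHeartbeats 2000000
set_option synthInstance.maxHeartbeats 400000

universe u

open CategoryTheory CategoryTheory.Limits AlgebraicGeometry Opposite Polynomial

noncomputable section

namespace LangShLib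

section

variable {R : Type u} [CommRing R] (u : Rˣ) (n : ℕ)

theorem kum_monic (hn : 1 ≤ n) : (X ^ n - C (u : R) : R[X]).Monic := monic_X_pow_sub_C _ (by omega)

theorem kum_natDegree [Nontrivial R] : (X ^ n - C (u : R) : R[X]).natDegree = n := natDegree_X_pow_sub_C

theorem kum_separable (hn : 1 ≤ n) (h : IsUnit (n : R)) : (X ^ n - C (u : R) : R[X]).Separable :=
  separable_X_pow_sub_C_unit u h

theorem isUnit_root (hn : 1 ≤ n) : IsUnit (AdjoinRoot.root (X ^ n - C (u : R) : R[X])) := by
  have h := AdjoinRoot.eval₂_root (X ^ n - C (u : R) : R[X])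
  simp only [eval₂_sub, eval₂_pow, eval₂_X, eval₂_C, sub_eq_zero] at h
  refine (isUnit_pow_iff (by omega : n ≠ 0)).1 ?_
  rw [h]
  exact u.isUnit.map _

theorem root_pow : AdjoinRoot.root (X ^ n - C (u : R) : R[X]) ^ n = AdjoinRoot.of _ (u : R) := by
  have h := AdjoinRoot.eval₂_root (X ^ n - C (u : R) : R[X])
  simpa only [eval₂_sub, eval₂_pow, eval₂_X, eval₂_C, sub_eq_zero] using h

/-- The power map between Kummer algebras. -/
def kumPow (m d e : ℕ) (h : d * e = m) :
    AdjoinRoot (X ^ d - C (u : R) : R[X]) →+* AdjoinRoot (X ^ m - C (u : R) : R[X]) :=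
  AdjoinRoot.lift (AdjoinRoot.of _) (AdjoinRoot.root _ ^ e) (by
    rw [eval₂_sub, eval₂_pow, eval₂_X, eval₂_C, ← pow_mul, mul_comm, h, root_pow, sub_self])

theorem kumPow_of (m d e : ℕ) (h : d * e = m) (r : R) :
    kumPow u m d e h (AdjoinRoot.of _ r) = AdjoinRoot.of _ r := AdjoinRoot.lift_of _

theorem kumPow_root (m d e : ℕ) (h : d * e = m) :
    kumPow u m d e h (AdjoinRoot.root _) = AdjoinRoot.root _ ^ e := AdjoinRoot.lift_root _

/-- Multiplication of the root by a root of unity. -/
def kumMul (m : ℕ) (c : R) (hc : c ^ m = 1) :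
    AdjoinRoot (X ^ m - C (u : R) : R[X]) →+* AdjoinRoot (X ^ m - C (u : R) : R[X]) :=
  AdjoinRoot.lift (AdjoinRoot.of _) (AdjoinRoot.of _ c * AdjoinRoot.root _) (by
    rw [eval₂_sub, eval₂_pow, eval₂_X, eval₂_C, mul_pow, ← map_pow, hc, map_one, one_mul, root_pow, sub_self])

theorem kumMul_of (m : ℕ) (c : R) (hc : c ^ m = 1) (r : R) :
    kumMul u m c hc (AdjoinRoot.of _ r) = AdjoinRoot.of _ r := AdjoinRoot.lift_of _

theorem kumMul_root (m : ℕ) (c : R) (hc : c ^ m = 1) :
    kumMul u m c hc (AdjoinRoot.root _) = AdjoinRoot.of _ c * AdjoinRoot.root _ := AdjoinRoot.lift_root _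

theorem adjoinRoot_hom_ext {S : Type u} [CommRing S] {f : R[X]} {φ ψ : AdjoinRoot f →+* S}
    (h₁ : ∀ r, φ (AdjoinRoot.of f r) = ψ (AdjoinRoot.of f r)) (h₂ : φ (AdjoinRoot.root f) = ψ (AdjoinRoot.root f)) :
    φ = ψ :=
  Ideal.Quotient.ringHom_ext (Polynomial.ringHom_ext h₁ h₂)

theorem kumMul_comp (m : ℕ) (c c' : R) (hc : c ^ m = 1) (hc' : c' ^ m = 1) :
    (kumMul u m c hc).comp (kumMul u m c' hc') = kumMul u m (c' * c) (by rw [mul_pow, hc, hc', one_mul]) := by
  refine adjoinRoot_hom_ext (fun r => ?_) ?_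
  · rw [RingHom.comp_apply, kumMul_of, kumMul_of, kumMul_of]
  · rw [RingHom.comp_apply, kumMul_root, map_mul, kumMul_of, kumMul_root, kumMul_root, map_mul, mul_assoc]

theorem kumMul_one (m : ℕ) : kumMul u m 1 (one_pow m) = RingHom.id _ := by
  refine adjoinRoot_hom_ext (fun r => ?_) ?_
  · rw [kumMul_of]; rfl
  · rw [kumMul_root, map_one, one_mul]; rfl

theorem kumMul_kumPow (m d e : ℕ) (h : d * e = m) (c : R) (hc : c ^ m = 1) (hce : c ^ e = 1) :
    (kumMul u m c hc).comp (kumPow u m d e h) = kumPow u m d e h := by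
  refine adjoinRoot_hom_ext (fun r => ?_) ?_
  · rw [RingHom.comp_apply, kumPow_of, kumMul_of]
  · rw [RingHom.comp_apply, kumPow_root, map_pow, kumMul_root, mul_pow, ← map_pow, hce, map_one, one_mul]

end

variable (k : Type u) [Field k]

/-- The source of a Kummer cover of the punctured line is a punctured line. -/
theorem exists_kumIso (uT : (LaurentPolynomial k)ˣ) (huT : (uT : LaurentPolynomial k) = LaurentPolynomial.T 1)
    (n : ℕ) (hn : 1 ≤ n) :
    ∃ e : Spec (CommRingCat.of (AdjoinRoot (X ^ n - C (uT : LaurentPolynomial k)))) ≅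
        Spec (CommRingCat.of (LaurentPolynomial k)),
      e.hom ≫ Spec.map (CommRingCat.ofHom (algebraMap k (LaurentPolynomial k))) =
        LangSh.cover (LaurentPolynomial k) (AdjoinRoot (X ^ n - C (uT : LaurentPolynomial k))) ≫
          Spec.map (CommRingCat.ofHom (algebraMap k (LaurentPolynomial k))) := by
  let R := LaurentPolynomial k
  let f : R[X] := X ^ n - C (uT : R)
  let φ : R →+* AdjoinRoot f :=
    LaurentPolynomial.eval₂ ((AdjoinRoot.of f).comp LaurentPolynomial.C) (isUnit_root uT n hn).unit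
  let i : R →+* R := LaurentPolynomial.eval₂ LaurentPolynomial.C (uT ^ n)
  have hiT : i (uT : R) = (uT : R) ^ n := by
    show LaurentPolynomial.eval₂ _ _ (uT : R) = _
    rw [huT, LaurentPolynomial.eval₂_T]
    simp [← huT]
  let ψ : AdjoinRoot f →+* R := AdjoinRoot.lift i (uT : R) (by
    show Polynomial.eval₂ i (uT : R) (X ^ n - C (uT : R)) = 0
    rw [eval₂_sub, eval₂_pow, eval₂_X, eval₂_C, hiT, sub_self])
  have hext : ∀ {S : Type u} [CommRing S] {α β : R →+* S},
      (∀ c, α (LaurentPolynomial.C c) = β (LaurentPolynomial.C c)) → α (uT : R) = β (uT : R) → α = β := by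
    intro S _ α β h1 h2
    refine IsLocalization.ringHom_ext (Submonoid.powers (X : k[X])) (Polynomial.ringHom_ext (fun c => ?_) ?_)
    · rw [RingHom.comp_apply, RingHom.comp_apply, LaurentPolynomial.algebraMap_eq_toLaurent, Polynomial.toLaurent_C]
      exact h1 c
    · rw [RingHom.comp_apply, RingHom.comp_apply, LaurentPolynomial.algebraMap_eq_toLaurent, Polynomial.toLaurent_X,
        ← huT]
      exact h2
  have hφT : φ (uT : R) = AdjoinRoot.root f := by
    show LaurentPolynomial.eval₂ _ _ (uT : R) = _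
    refine (congrArg _ huT).trans ((LaurentPolynomial.eval₂_T _ _ _).trans ?_)
    rw [zpow_one]
    exact IsUnit.unit_spec _
  have hφC : ∀ c, φ (LaurentPolynomial.C c) = AdjoinRoot.of f (LaurentPolynomial.C c) := fun c =>
    LaurentPolynomial.eval₂_C _ _ c
  have hψr : ψ (AdjoinRoot.root f) = uT := AdjoinRoot.lift_root _
  have hψo : ∀ r, ψ (AdjoinRoot.of f r) = i r := fun r => AdjoinRoot.lift_of _
  have h2 : ψ.comp φ = RingHom.id R := by
    refine hext (fun c => ?_) ?_
    · rw [RingHom.comp_apply, hφC, hψo]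
      exact LaurentPolynomial.eval₂_C _ _ c
    · rw [RingHom.comp_apply, hφT, hψr]; rfl
  have h1 : φ.comp ψ = RingHom.id _ := by
    refine adjoinRoot_hom_ext (fun r => ?_) ?_
    · rw [RingHom.comp_apply, hψo]
      have h3 : φ.comp i = AdjoinRoot.of f := by
        refine hext (fun c => ?_) ?_
        · rw [RingHom.comp_apply]
          show φ (LaurentPolynomial.eval₂ _ _ _) = _
          rw [LaurentPolynomial.eval₂_C]
          exact hφC c
        · rw [RingHom.comp_apply, hiT, map_pow, hφT]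
          exact root_pow uT n
      exact RingHom.congr_fun h3 r
    · rw [RingHom.comp_apply, hψr, hφT]; rfl
  let e : R ≃+* AdjoinRoot f := RingEquiv.ofRingHom φ ψ h1 h2
  refine ⟨Scheme.Spec.mapIso e.toCommRingCatIso.op, ?_⟩
  show Spec.map (CommRingCat.ofHom φ) ≫ _ = Spec.map _ ≫ _
  rw [← Spec.map_comp, ← Spec.map_comp]
  exact congrArg Spec.map (CommRingCat.hom_ext (RingHom.ext fun c => hφC c))

end LangShLib

end
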