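import Groth.Agent.EtPnCohLib.Main
import Groth.Agent.CdCharPLib.Trace
import Groth.Prelude.Def_LangSh

/-!
# A sheaf split off from the direct image along a cover with the same cohomology with compact supports
-/

set_option autoImplicit false
set_option linter.all false
set_option backward.isDefEq.respectTransparency false
set_option backward.isDefEq.respectTransparency.types false
set_option maxHeartbeats 2000000
set_option synthInstance.maxHeartbeats 400000

universe u

open CategoryTheory CategoryTheory.Limits CategoryTheory.Abelian AlgebraicGeometry Opposite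
open Groth.Agent Groth.Agent.EtShLib

attribute [local instance] EtSliceLib.pullExact

noncomputable section

namespace LangShLib

variable {U V Z : Scheme.{u}}

theorem nsmul_id_constM (Y : Scheme.{u}) (M : Type) [AddCommGroup M] (ℓ : ℕ) (h : ∀ m : M, ℓ • m = 0) :
    ℓ • 𝟙 (EtCoh.const Y M) = 0 := by
  let c := constantSheaf Y.smallEtaleTopology AddCommGrpCat.{u + 1}
  have h1 : ℓ • 𝟙 (AddCommGrpCat.of (ULift.{u + 1} M)) = 0 := by
    ext x
    simp [h]
  have h2 := congrArg c.map h1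
  rwa [Functor.map_nsmul, Functor.map_zero, c.map_id] at h2

theorem isTorsion_constM (Y : Scheme.{u}) (M : Type) [AddCommGroup M] {ℓ : ℕ} (hℓ : 0 < ℓ) (h : ∀ m : M, ℓ • m = 0) :
    EtCoh.IsTorsion (EtCoh.const Y M) :=
  CdOneLib.isTorsion_of_nsmul_id ℓ hℓ (nsmul_id_constM Y M ℓ h)

theorem nonempty_extZero_iso_const (a : U ⟶ V) [IsIso a] (M : Type) [AddCommGroup M] :
    Nonempty (EtCoh.const V M ≅ (EtShriek.extZero a).obj (EtCoh.const U M)) := by
  obtain ⟨r⟩ := nonempty_pull_iso_restrAlong a (EtCoh.const V M)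
  refine nonempty_iso_extZero a (EtCoh.const U M) (EtCoh.const V M) (r.symm ≪≫ EtCore.pullConst a M) fun Ω _ _ ξ h => ?_
  exact absurd ((asIso a).hom.homeomorph.surjective (ξ.base default)) (h ⟨default, rfl⟩)

variable {k : Type u} [Field k]

/-- Isomorphic schemes have the same cohomology with compact supports. -/
theorem nonempty_H_compact_iso {P Q : Scheme.{u}} (b : P ⟶ Spec (CommRingCat.of k)) [IsProper b]
    (c : Q ⟶ Spec (CommRingCat.of k)) [IsProper c] (j : U ⟶ P) [IsOpenImmersion j] (γ : Z ⟶ Q) [IsOpenImmersion γ]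
    [IsReduced Z] (e : Z ≅ U) (w : γ ≫ c = e.hom ≫ j ≫ b) (M : Type) [AddCommGroup M] {ℓ : ℕ} (hℓ : 0 < ℓ)
    (hM : ∀ m : M, ℓ • m = 0) (q : ℕ) :
    Nonempty (EtCoh.H Q ((EtShriek.extZero γ).obj (EtCoh.const Z M)) q ≃+
      EtCoh.H P ((EtShriek.extZero j).obj (EtCoh.const U M)) q) := by
  obtain ⟨e₁⟩ := EtPnCohLib.nonempty_H_independent c b γ (e.hom ≫ j) (w.trans (Category.assoc _ _ _).symm)
    (EtCoh.const Z M) (isTorsion_constM Z M hℓ hM) q
  obtain ⟨i⟩ := nonempty_extZero_iso_const e.hom M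
  obtain ⟨i'⟩ := EtPnCohLib.nonempty_extZero_comp e.hom j (EtCoh.const Z M)
  obtain ⟨e₂⟩ := EtPnCohLib.nonempty_H_congr (i'.symm ≪≫ (EtShriek.extZero j).mapIso i.symm) q
  exact ⟨e₁.trans e₂⟩

/-- Cohomology with compact supports of a direct image along a finite morphism. -/
theorem nonempty_H_compact_push {P Q : Scheme.{u}} (b : P ⟶ Spec (CommRingCat.of k)) [IsProper b]
    (c : Q ⟶ Spec (CommRingCat.of k)) [IsProper c] (j : U ⟶ P) [IsOpenImmersion j] (γ : Z ⟶ Q) [IsOpenImmersion γ]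
    [IsReduced Z] (π : Z ⟶ U) [IsFinite π] (w : γ ≫ c = π ≫ j ≫ b) (F : EtCoh.Ab Z) (hF : EtCoh.IsTorsion F) (q : ℕ) :
    Nonempty (EtCoh.H P ((EtShriek.extZero j).obj ((EtCoh.push π).obj F)) q ≃+
      EtCoh.H Q ((EtShriek.extZero γ).obj F) q) := by
  let δ : Z ⟶ pullback c b := pullback.lift γ (π ≫ j) (w.trans (Category.assoc _ _ _).symm)
  haveI : IsImmersion (δ ≫ pullback.fst c b) := by rw [pullback.lift_fst]; infer_instance
  haveI : IsImmersion δ := IsImmersion.of_comp δ (pullback.fst c b)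
  haveI : IsOpenImmersion δ.toImage := AlgSpRegLib.isOpenImmersion_toImage_of_reduced δ
  haveI : IsProper (pullback.fst c b) := MorphismProperty.pullback_fst _ _ inferInstance
  haveI : IsProper (pullback.snd c b) := MorphismProperty.pullback_snd _ _ inferInstance
  let p := δ.imageι ≫ pullback.snd c b
  have h₁ : δ.toImage ≫ δ.imageι ≫ pullback.fst c b = γ := by
    rw [Scheme.Hom.toImage_imageι_assoc, pullback.lift_fst]
  have h₂ : δ.toImage ≫ p = π ≫ j := by
    rw [Scheme.Hom.toImage_imageι_assoc, pullback.lift_snd]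
  obtain ⟨e₁⟩ := EtPnCohLib.nonempty_H_of_dominating γ δ.toImage (δ.imageι ≫ pullback.fst c b) h₁ F hF q
  have e := fun r => EtPBCCdLib.nonempty_extZero_Rpush_iso δ.toImage j π p h₂ F hF r
  have hR : ∀ r, 0 < r → IsZero ((EtCoh.Rpush p r).obj ((EtShriek.extZero δ.toImage).obj F)) := fun r hr => by
    obtain ⟨i⟩ := e r
    haveI : PreservesFiniteLimits (EtShriek.extZero j) := preservesFiniteLimits_extZero j
    exact ((EtShriek.extZero j).map_isZero (EtStrictAcycLib.isZero_Rpush_finite π F r hr)).of_iso i.symm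
  haveI : PreservesLimitsOfSize.{0, 0} (EtCoh.push p) := (EtCoh.pullPushAdj p).rightAdjoint_preservesLimits
  haveI : PreservesFiniteLimits (EtCoh.push p) := PreservesLimitsOfSize.preservesFiniteLimits _
  haveI : PreservesLimitsOfSize.{0, 0} (EtCoh.push π) := (EtCoh.pullPushAdj π).rightAdjoint_preservesLimits
  haveI : PreservesFiniteLimits (EtCoh.push π) := PreservesLimitsOfSize.preservesFiniteLimits _
  obtain ⟨i⟩ := e 0
  let φ : (EtShriek.extZero j).obj ((EtCoh.push π).obj F) ≅ (EtCoh.push p).obj ((EtShriek.extZero δ.toImage).obj F) :=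
    (EtShriek.extZero j).mapIso ((EtCoh.push π).rightDerivedZeroIsoSelf.app F).symm ≪≫ i ≪≫
      (EtCoh.push p).rightDerivedZeroIsoSelf.app _
  obtain ⟨a₁⟩ := EtPnCohLib.nonempty_H_congr φ q
  obtain ⟨a₂⟩ := EtPnCohLib.nonempty_H_push p ((EtShriek.extZero δ.toImage).obj F) hR q
  exact ⟨(a₁.trans a₂).trans e₁⟩

/-- Maps out of a constant sheaf into a sheaf without global sections vanish. -/
theorem hom_const_eq_zero (G : EtCoh.Ab U) (h : Subsingleton (EtCoh.H U G 0)) (M : Type) [AddCommGroup M]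
    (f : EtCoh.const U M ⟶ G) : f = 0 := by
  obtain ⟨hT⟩ := isTerminal_top U
  haveI : Subsingleton (G.obj.obj (op (EtCoh.top U))) := (Sheaf.H.equiv₀ G hT).symm.toEquiv.subsingleton
  apply ((EtCore.constAdj U).homEquiv _ _).injective
  exact ConcreteCategory.hom_ext _ _ fun m => @Subsingleton.elim (G.obj.obj (op (EtCoh.top U))) _ _ _

/-- **The complement of the trivial summand is acyclic.** -/
theorem subsingleton_of_cover {P Q : Scheme.{u}} (b : P ⟶ Spec (CommRingCat.of k)) [IsProper b]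
    (c : Q ⟶ Spec (CommRingCat.of k)) [IsProper c] (j : U ⟶ P) [IsOpenImmersion j] (γ : Z ⟶ Q) [IsOpenImmersion γ]
    [IsReduced Z] (π : Z ⟶ U) [IsFinite π] [AlgebraicGeometry.Etale π] (w : γ ≫ c = π ≫ j ≫ b)
    (M : Type) [AddCommGroup M] {ℓ : ℕ} (hℓ : 0 < ℓ) (hM : ∀ m : M, ℓ • m = 0)
    (G : EtCoh.Ab U) (hG : ℓ • 𝟙 G = 0) (eG : (EtCoh.pull π).obj G ≅ EtCoh.const Z M)
    (hd : ∀ (Ω : Type u) [Field Ω] [IsSepClosed Ω] (ξ : Spec (CommRingCat.of Ω) ⟶ U),
      Nat.Coprime ℓ (Nat.card {v : Spec (CommRingCat.of Ω) ⟶ Z // v ≫ π = ξ}))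
    (hG0 : Subsingleton (EtCoh.H U G 0)) (q : ℕ)
    (hfin : Finite (EtCoh.H Q ((EtShriek.extZero γ).obj (EtCoh.const Z M)) q))
    (hcard : Nat.card (EtCoh.H Q ((EtShriek.extZero γ).obj (EtCoh.const Z M)) q) ≤
      Nat.card (EtCoh.H P ((EtShriek.extZero j).obj (EtCoh.const U M)) q)) :
    Subsingleton (EtCoh.H P ((EtShriek.extZero j).obj G) q) := by
  let C := EtCoh.const U M
  let T := (EtCoh.push π).obj (EtCoh.const Z M)
  obtain ⟨vC, hvC⟩ := CdCharPLib.exists_retraction π ℓ C (nsmul_id_constM U M ℓ hM) fun Ω _ _ ξ => Or.inl (hd Ω ξ)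
  obtain ⟨vG, hvG⟩ := CdCharPLib.exists_retraction π ℓ G hG fun Ω _ _ ξ => Or.inl (hd Ω ξ)
  let a : C ⟶ T := (EtCoh.pullPushAdj π).unit.app C ≫ (EtCoh.push π).map (EtCore.pullConst π M).hom
  let a' : T ⟶ C := (EtCoh.push π).map (EtCore.pullConst π M).inv ≫ vC
  let g : G ⟶ T := (EtCoh.pullPushAdj π).unit.app G ≫ (EtCoh.push π).map eG.hom
  let g' : T ⟶ G := (EtCoh.push π).map eG.inv ≫ vG
  have ha : a ≫ a' = 𝟙 C := by
    simp only [a, a', Category.assoc, ← Functor.map_comp_assoc, Iso.hom_inv_id]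
    rw [CategoryTheory.Functor.map_id, Category.id_comp]
    exact hvC
  have hg : g ≫ g' = 𝟙 G := by
    simp only [g, g', Category.assoc, ← Functor.map_comp_assoc, Iso.hom_inv_id]
    rw [CategoryTheory.Functor.map_id, Category.id_comp]
    exact hvG
  have hag : a ≫ g' = 0 := hom_const_eq_zero G hG0 M _
  haveI : (EtShriek.extZero j).Additive := inferInstance
  let mp : ∀ {A B : EtCoh.Ab U} (f : A ⟶ B),
      EtCoh.H P ((EtShriek.extZero j).obj A) q →+ EtCoh.H P ((EtShriek.extZero j).obj B) q :=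
    fun f => Sheaf.H.map ((EtShriek.extZero j).map f) q
  have hcomp : ∀ {A B D : EtCoh.Ab U} (f : A ⟶ B) (h : B ⟶ D) x, mp h (mp f x) = mp (f ≫ h) x := fun f h x => by
    show Sheaf.H.map _ q (Sheaf.H.map _ q x) = Sheaf.H.map ((EtShriek.extZero j).map (f ≫ h)) q x
    rw [← Sheaf.H.map_comp_apply, ← Functor.map_comp]
  have hid : ∀ {A : EtCoh.Ab U} x, mp (𝟙 A) x = x := fun x => by
    show Sheaf.H.map _ q x = x
    rw [CategoryTheory.Functor.map_id, Sheaf.H.map_id_apply]
  have hz : ∀ {A B : EtCoh.Ab U} x, mp (0 : A ⟶ B) x = 0 := fun {A B} x => by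
    show Sheaf.H.map _ q x = 0
    rw [Functor.map_zero, Sheaf.H.map_apply, Ext.mk₀_zero, Ext.comp_zero]
  let Φ : EtCoh.H P ((EtShriek.extZero j).obj C) q × EtCoh.H P ((EtShriek.extZero j).obj G) q →+
      EtCoh.H P ((EtShriek.extZero j).obj T) q :=
    (mp a).comp (AddMonoidHom.fst _ _) + (mp g).comp (AddMonoidHom.snd _ _)
  have hΦ : Function.Injective Φ := by
    refine (injective_iff_map_eq_zero _).2 fun z hzero => ?_
    have h0 : mp a z.1 + mp g z.2 = 0 := hzero
    have h2 : z.2 = 0 := by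
      have e := congrArg (mp g') h0
      rwa [map_add, map_zero, hcomp, hcomp, hag, hg, hz, hid, zero_add] at e
    have h1 : z.1 = 0 := by
      have e := congrArg (mp a') h0
      rwa [h2, map_zero, add_zero, map_zero, hcomp, ha, hid] at e
    exact Prod.ext h1 h2
  obtain ⟨eT⟩ := nonempty_H_compact_push b c j γ π w (EtCoh.const Z M) (isTorsion_constM Z M hℓ hM) q
  haveI : Finite (EtCoh.H P ((EtShriek.extZero j).obj T) q) := Finite.of_equiv _ eT.symm.toEquiv
  haveI hP : Finite (EtCoh.H P ((EtShriek.extZero j).obj C) q × EtCoh.H P ((EtShriek.extZero j).obj G) q) :=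
    Finite.of_injective _ hΦ
  haveI : Finite (EtCoh.H P ((EtShriek.extZero j).obj G) q) := Finite.prod_right (EtCoh.H P ((EtShriek.extZero j).obj C) q)
  haveI : Finite (EtCoh.H P ((EtShriek.extZero j).obj C) q) := Finite.prod_left (EtCoh.H P ((EtShriek.extZero j).obj G) q)
  have hle := Nat.card_le_card_of_injective _ hΦ
  rw [Nat.card_prod, Nat.card_congr eT.toEquiv] at hle
  have hpos : 0 < Nat.card (EtCoh.H P ((EtShriek.extZero j).obj C) q) := Nat.card_pos
  refine (Nat.card_eq_one_iff_unique.1 (le_antisymm ?_ Nat.card_pos)).1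
  exact Nat.le_of_mul_le_mul_left ((hle.trans hcard).trans (mul_one _).ge) hpos

theorem exists_coords (R : Type) (M : Type) [Field R] [AddCommGroup M] [Module R M] [Finite M] :
    ∃ (d : ℕ) (inc : Fin d → (R →+ M)) (prj : Fin d → (M →+ R)), ∀ m, ∑ i, inc i (prj i m) = m := by
  let B₀ := Module.Basis.ofVectorSpace R M
  haveI : Finite (Module.Basis.ofVectorSpaceIndex R M) := Finite.of_injective _ B₀.injective
  haveI := Fintype.ofFinite (Module.Basis.ofVectorSpaceIndex R M)
  let B := B₀.reindex (Fintype.equivFin _)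
  exact ⟨_, fun i => (LinearMap.toSpanSingleton R M (B i)).toAddMonoidHom, fun i => (B.coord i).toAddMonoidHom,
    fun m => B.sum_repr m⟩

/-- Finiteness for a finite coefficient group killed by a prime. -/
theorem finite_H_compact_constM {P : Scheme.{u}} (j : U ⟶ P) [IsOpenImmersion j] (M : Type) [AddCommGroup M]
    [Finite M] (ℓ : ℕ) [Fact ℓ.Prime] (hM : ∀ m : M, ℓ • m = 0) (q : ℕ)
    (h : Finite (EtCoh.H P ((EtShriek.extZero j).obj (EtCoh.const U (ZMod ℓ))) q)) :
    Finite (EtCoh.H P ((EtShriek.extZero j).obj (EtCoh.const U M)) q) := by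
  letI : Module (ZMod ℓ) M := AddCommGroup.zmodModule hM
  obtain ⟨d, inc₀, prj₀, hsum₀⟩ := exists_coords (ZMod ℓ) M
  let c := constantSheaf U.smallEtaleTopology AddCommGrpCat.{u + 1}
  let inc : ∀ i, AddCommGrpCat.of (ULift.{u + 1} (ZMod ℓ)) ⟶ AddCommGrpCat.of (ULift.{u + 1} M) := fun i =>
    AddCommGrpCat.ofHom (AddMonoidHom.mk' (fun t => ⟨inc₀ i t.down⟩) fun s t => ULift.ext _ _ (map_add (inc₀ i) _ _))
  let prj : ∀ i, AddCommGrpCat.of (ULift.{u + 1} M) ⟶ AddCommGrpCat.of (ULift.{u + 1} (ZMod ℓ)) := fun i =>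
    AddCommGrpCat.ofHom (AddMonoidHom.mk' (fun t => ⟨prj₀ i t.down⟩) fun s t => ULift.ext _ _ (map_add (prj₀ i) _ _))
  have hsum : ∑ i, prj i ≫ inc i = 𝟙 _ := by
    ext t
    have : ∀ (s : Finset (Fin d)), ((∑ i ∈ s, prj i ≫ inc i) t).down = ∑ i ∈ s, inc₀ i (prj₀ i t.down) := fun s => by
      induction s using Finset.induction with
      | empty => simp
      | insert i s hi ih => rw [Finset.sum_insert hi, Finset.sum_insert hi, ← ih]; rfl
    exact (this Finset.univ).trans (hsum₀ t.down)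
  let G := c ⋙ EtShriek.extZero j ⋙ EtCoh.HF P q
  haveI : (EtCoh.HF P q).Additive := inferInstanceAs (Sheaf.functorH _ q).Additive
  let Φ : EtCoh.H P ((EtShriek.extZero j).obj (EtCoh.const U M)) q →
      (Fin d → EtCoh.H P ((EtShriek.extZero j).obj (EtCoh.const U (ZMod ℓ))) q) :=
    fun x i => (G.map (prj i)).hom x
  refine Finite.of_injective Φ fun x y hxy => ?_
  have key : ∀ x, x = ∑ i, (G.map (inc i)).hom (Φ x i) := fun x => by
    have e := congrArg (fun f => (G.map f).hom x) hsum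
    rw [Functor.map_sum, CategoryTheory.Functor.map_id] at e
    refine Eq.trans ?_ (e.symm.trans ?_)
    · rfl
    · have hs : ∀ (t : Finset (Fin d)), (∑ i ∈ t, G.map (prj i ≫ inc i)).hom x =
          ∑ i ∈ t, (G.map (inc i)).hom (Φ x i) := fun t => by
        induction t using Finset.induction with
        | empty => simp
        | insert i t hi ih =>
          rw [Finset.sum_insert hi, Finset.sum_insert hi, ← ih, Functor.map_comp]
          rfl
      exact hs Finset.univ
  rw [key x, key y, hxy]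

end LangShLib

end
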