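import Groth.Agent.LangShLib.Frob
import Groth.Agent.LangShLib.Summand
import Groth.Agent.AicVanishLib.Affine
import Groth.Agent.EtPBCDLib.BaseChange

/-!
# Vanishing of cohomology with compact supports of a sheaf with a non-constant trace function
-/

set_option autoImplicit false
set_option linter.all false
set_option backward.isDefEq.respectTransparency false
set_option backward.isDefEq.respectTransparency.types false
set_option maxHeartbeats 2000000
set_option synthInstance.maxHeartbeats 400000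

universe u

open CategoryTheory CategoryTheory.Limits CategoryTheory.Abelian AlgebraicGeometry Opposite
open Groth.Agent Groth.Agent.EtShLib

attribute [local instance] EtSliceLib.pullExact

noncomputable section

namespace LangShLib

theorem surjective_of_lifts {U Z : Scheme.{u}} (π : Z ⟶ U) {ℓ : ℕ} (hℓ : ℓ.Prime)
    (hd : ∀ (Ω : Type u) [Field Ω] [IsSepClosed Ω] (ξ : Spec (CommRingCat.of Ω) ⟶ U),
      Nat.Coprime ℓ (Nat.card {v : Spec (CommRingCat.of Ω) ⟶ Z // v ≫ π = ξ})) : Surjective π := by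
  refine ⟨fun u => ?_⟩
  let Ω := AlgebraicClosure (U.residueField u)
  let ξ : Spec (CommRingCat.of Ω) ⟶ U :=
    Spec.map (CommRingCat.ofHom (algebraMap (U.residueField u) Ω)) ≫ U.fromSpecResidueField u
  have hne : Nat.card {v : Spec (CommRingCat.of Ω) ⟶ Z // v ≫ π = ξ} ≠ 0 := fun h0 => by
    have := hd Ω ξ
    rw [h0, Nat.coprime_zero_right] at this
    exact hℓ.ne_one this
  obtain ⟨⟨v, hv⟩⟩ := (Nat.card_ne_zero.1 hne).1
  refine ⟨v.base default, ?_⟩
  rw [← Scheme.Hom.comp_apply, hv, Scheme.Hom.comp_apply]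
  exact Scheme.fromSpecResidueField_apply _ _

theorem injective_Hpull_zero {U Z : Scheme.{u}} (π : Z ⟶ U) [IsFinite π] [Surjective π] (G : EtCoh.Ab U) :
    Function.Injective (EtCore.Hpull π G 0) := by
  have hR : ∀ q : ℕ, 0 < q → IsZero ((EtCoh.Rpush π q).obj ((EtCoh.pull π).obj G)) := fun q hq =>
    EtShLib.isZero_rightDerived_push_finite π _ q hq
  have hfun : ∀ x : EtCoh.H U G 0, EtCore.Hpull π G 0 x =
      EtLim.HofPush π _ 0 (x.comp (Ext.mk₀ ((EtCoh.pullPushAdj π).unit.app G)) (add_zero 0)) := by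
    intro x
    show EtCore.Hpull π G 0 x = (EtCore.Hpull π _ 0 (x.comp (Ext.mk₀ _) (add_zero 0))).comp
      (Ext.mk₀ ((EtCoh.pullPushAdj π).counit.app _)) (add_zero 0)
    rw [EtAcycLib.Hpull_postcomp, Ext.comp_assoc_of_second_deg_zero, Ext.mk₀_comp_mk₀]
    erw [(EtCoh.pullPushAdj π).left_triangle_components G]
    rw [Ext.comp_mk₀_id]
  haveI := AicVanishLib.mono_unit_of_surjective π G
  intro x y h
  rw [hfun, hfun] at h
  exact TorsBCLib.em_inj_zero _ _ ((Groth.Agent.S14451.result π _ hR 0).1 h)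

theorem eq_zero_of_postcomp {U : Scheme.{u}} {A B : EtCoh.Ab U} (e : A ⟶ B) [IsIso e] {n : ℕ} (x : EtCoh.H U A n)
    (h : x.comp (Ext.mk₀ e) (add_zero n) = 0) : x = 0 :=
  EtContLib.ext_eq_zero_of_comp x e inferInstance h

/-- Restriction to a point with values in the base is injective on sections of a constant sheaf. -/
theorem injective_Hpull_section {Ω : Type u} [Field Ω] [IsSepClosed Ω] {Z T : Scheme.{u}} [ConnectedSpace Z]
    (bZ : Z ⟶ Spec (CommRingCat.of Ω)) (z : T ⟶ Z) [IsIso (z ≫ bZ)] (M : Type) [AddCommGroup M] [Finite M] :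
    Function.Injective (EtCore.Hpull z (EtCoh.const Z M) 0) := by
  let C := EtCoh.const (Spec (CommRingCat.of Ω)) M
  have hz : ∀ y, EtCore.Hpull (z ≫ bZ) C 0 y =
      (EtCore.Hpull z _ 0 (EtCore.Hpull bZ C 0 y)).comp
        (Ext.mk₀ ((DescSecLib.etSys.c z bZ _ rfl).app C)) (add_zero 0) := fun y =>
    (CovDevLib.Hpull_comp z bZ _ rfl C 0 y).symm
  have hinj : Function.Injective (EtCore.Hpull bZ C 0) := fun y y' h =>
    (CovDevLib.bijective_Hpull_iso (z ≫ bZ) C 0).1 (by rw [hz, hz, h])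
  obtain ⟨e₁⟩ := EtSmAcycLib.nonempty_H_zero_const_connected (Y := Spec (CommRingCat.of Ω)) M
  obtain ⟨e₂⟩ := EtPnCohLib.nonempty_H_congr (EtCore.pullConst bZ M : (EtCoh.pull bZ).obj C ≅ EtCoh.const Z M) 0
  obtain ⟨e₃⟩ := EtSmAcycLib.nonempty_H_zero_const_connected (Y := Z) M
  haveI : Finite (EtCoh.H Z ((EtCoh.pull bZ).obj C) 0) := Finite.of_equiv M (e₂.trans e₃).symm.toEquiv
  have hb : Function.Bijective (EtCore.Hpull bZ C 0) :=
    hinj.bijective_of_nat_card_le (le_of_eq ((Nat.card_congr (e₂.trans e₃).toEquiv).trans (Nat.card_congr e₁.toEquiv).symm))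
  refine (injective_iff_map_eq_zero _).2 fun x hx => ?_
  obtain ⟨y', hy'⟩ := (EtAcycLib.bijective_mk₀_iso_postcomp (Z := EtCoh.const Z ℤ) (EtCore.pullConst bZ M) 0).2 x
  subst hy'
  rw [EtAcycLib.Hpull_postcomp] at hx
  have h1 := eq_zero_of_postcomp _ _ hx
  obtain ⟨y, rfl⟩ := hb.2 y'
  have h2 : y = 0 := (injective_iff_map_eq_zero _).1 (CovDevLib.bijective_Hpull_iso (z ≫ bZ) C 0).1 y
    (by rw [hz, h1, Ext.zero_comp])
  show Ext.comp (EtCore.Hpull bZ C 0 y) _ _ = 0
  rw [h2, map_zero, Ext.zero_comp]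

variable {k : Type u} [Field k] {K : Type u} [Field K] [Algebra k K] [IsAlgClosed K]
  {Λ : Type} [Field Λ] [Finite Λ] {X₀ Z₀ : Scheme.{u}} (a : X₀ ⟶ Spec (CommRingCat.of k))
  (π₀ : Z₀ ⟶ X₀) [IsFinite π₀] [AlgebraicGeometry.Etale π₀] (L : EtLam.Sheaf Λ X₀)

theorem nsmul_id_carrier {X : Scheme.{u}} (L : EtLam.Sheaf Λ X) : ringChar Λ • 𝟙 L.carrier = 0 := by
  have h1 : L.act ((ringChar Λ : ℕ) : Λ) = 0 := by rw [ringChar.Nat.cast_ringChar, map_zero]
  have h2 : L.act ((ringChar Λ : ℕ) : Λ) = ringChar Λ • (1 : End L.carrier) := by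
    rw [map_natCast, nsmul_eq_mul, mul_one]
  exact h2.symm.trans h1

section Zero

variable [Fintype k] [Algebra.IsAlgebraic k K] [Fact FinFr.PullExact.{u}]
  {k' : Type u} [Field k'] [Fintype k'] [Algebra k k'] [Algebra k' K] [IsScalarTower k k' K] [Algebra.IsAlgebraic k' K]
  (hcard : Fintype.card k' = Fintype.card k)
  (eL : (EtCoh.pull π₀).obj L.carrier ≅ EtCoh.const Z₀ Λ)
  [ConnectedSpace (pullback π₀ (FinFr.extπ K a) : Scheme.{u})]
  (hd : ∀ (Ω : Type u) [Field Ω] [IsSepClosed Ω] (ξ : Spec (CommRingCat.of Ω) ⟶ FinFr.ext K a),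
    Nat.Coprime (ringChar Λ) (Nat.card {v : Spec (CommRingCat.of Ω) ⟶ pullback π₀ (FinFr.extπ K a) //
      v ≫ pullback.snd π₀ (FinFr.extπ K a) = ξ}))

include eL hd in
/-- Global sections inject into the stalk at a rational point. -/
theorem res_injective_card (hℓ : (ringChar Λ).Prime) (x : Spec (CommRingCat.of k') ⟶ X₀) (hx : x ≫ a = FinFr.specι k k') :
    Function.Injective (res (K := K) a x hx L 0) ∧
      Nat.card (EtCoh.H (FinFr.ext K (𝟙 (Spec (CommRingCat.of k'))))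
        (EtLam.pullback (FinFr.extπ K (𝟙 _)) (EtLam.pullback x L)).carrier 0) = Nat.card Λ := by
  let T := FinFr.ext K (𝟙 (Spec (CommRingCat.of k')))
  let π := pullback.snd π₀ (FinFr.extπ K a)
  let q := qMap (K := K) a x hx
  haveI : IsIso (FinFr.extStr K (𝟙 (Spec (CommRingCat.of k')))) := inferInstance
  haveI : Surjective π := surjective_of_lifts π hℓ hd
  obtain ⟨⟨v, hv⟩⟩ : Nonempty {v : Spec (CommRingCat.of K) ⟶ pullback π₀ (FinFr.extπ K a) //
      v ≫ π = inv (FinFr.extStr K (𝟙 (Spec (CommRingCat.of k')))) ≫ q} := by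
    refine (Nat.card_ne_zero.1 fun h0 => ?_).1
    have := hd K (inv (FinFr.extStr K (𝟙 (Spec (CommRingCat.of k')))) ≫ q)
    rw [h0, Nat.coprime_zero_right] at this
    exact hℓ.ne_one this
  let z : T ⟶ pullback π₀ (FinFr.extπ K a) := FinFr.extStr K (𝟙 (Spec (CommRingCat.of k'))) ≫ v
  have hz : z ≫ π = q := by rw [Category.assoc, hv, IsIso.hom_inv_id_assoc]
  haveI : IsIso (z ≫ π ≫ FinFr.extStr K a) := by
    rw [← Category.assoc, hz, show q ≫ FinFr.extStr K a = FinFr.extStr K (𝟙 _) from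
      qMap_snd a x hx]
    infer_instance
  haveI : ConnectedSpace T := (asIso (FinFr.extStr K (𝟙 (Spec (CommRingCat.of k'))))).hom.homeomorph.connectedSpace_iff.2 inferInstance
  let G := (EtCoh.pull (FinFr.extπ K a)).obj L.carrier
  let eZ : (EtCoh.pull π).obj G ≅ EtCoh.const _ Λ :=
    ((EtCore.pullComp π (FinFr.extπ K a)).symm ≪≫ EtCore.pullCongr pullback.condition.symm ≪≫
      EtCore.pullComp (pullback.fst π₀ (FinFr.extπ K a)) π₀).app L.carrier ≪≫
      (EtCoh.pull _).mapIso eL ≪≫ EtCore.pullConst _ Λ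
  have hq : Function.Injective (EtCore.Hpull q G 0) := by
    refine (injective_iff_map_eq_zero _).2 fun s hs => ?_
    have h1 := CovDevLib.Hpull_comp z π q hz G 0 s
    rw [hs] at h1
    have h2 := eq_zero_of_postcomp _ _ h1
    have h3 : (EtCore.Hpull π G 0 s).comp (Ext.mk₀ eZ.hom) (add_zero 0) = 0 := by
      refine (injective_iff_map_eq_zero _).1 (injective_Hpull_section (π ≫ FinFr.extStr K a) z Λ) _ ?_
      rw [EtAcycLib.Hpull_postcomp, h2, Ext.zero_comp]
    exact (injective_iff_map_eq_zero _).1 (injective_Hpull_zero π G) s (eq_zero_of_postcomp _ _ h3)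
  refine ⟨(injective_iff_map_eq_zero _).2 fun s hs => ?_, ?_⟩
  · refine (injective_iff_map_eq_zero _).1 hq s ?_
    have h1 : Sheaf.H.map (ptIso x L).inv 0
        (EtCore.HpullVia q (FinFr.extπ K a) _ (qMap_fst a x hx) L.carrier 0 s) = 0 := hs
    have h2 : EtCore.HpullVia q (FinFr.extπ K a) _ (qMap_fst a x hx) L.carrier 0 s = 0 := by
      refine eq_zero_of_postcomp (ptIso x L).inv _ ?_
      rwa [← Sheaf.H.map_apply]
    rw [HpullVia_eq_c] at h2
    exact eq_zero_of_postcomp _ _ h2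
  · have w : FinFr.extπ K (𝟙 (Spec (CommRingCat.of k'))) ≫ x = (z ≫ pullback.fst π₀ (FinFr.extπ K a)) ≫ π₀ := by
      rw [Category.assoc, pullback.condition, ← Category.assoc, hz]
      exact (qMap_fst a x hx).symm
    obtain ⟨e₁⟩ := EtPnCohLib.nonempty_H_congr (ptIso (K := K) x L ≪≫
      (EtCore.pullCongr w ≪≫ EtCore.pullComp (z ≫ pullback.fst π₀ (FinFr.extπ K a)) π₀).app L.carrier ≪≫
      (EtCoh.pull _).mapIso eL ≪≫ EtCore.pullConst _ Λ) 0
    obtain ⟨e₂⟩ := EtSmAcycLib.nonempty_H_zero_const_connected (Y := T) Λ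
    exact Nat.card_congr (e₁.trans e₂).toEquiv

include eL hd hcard in
/-- A non-constant trace function kills the global sections. -/
theorem subsingleton_H_zero (hℓ : (ringChar Λ).Prime) (x y : {x : Spec (CommRingCat.of k') ⟶ X₀ // x ≫ a = FinFr.specι k k'})
    (hxy : FinFr.locTrace (K := K) x.1 L ≠ FinFr.locTrace (K := K) y.1 L) :
    Subsingleton (EtCoh.H (FinFr.ext K a) (EtLam.pullback (FinFr.extπ K a) L).carrier 0) := by
  refine ⟨fun s t => ?_⟩
  by_contra hne
  have hs : s - t ≠ 0 := sub_ne_zero.2 hne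
  have hbij : ∀ (x : {x : Spec (CommRingCat.of k') ⟶ X₀ // x ≫ a = FinFr.specι k k'}), Function.Bijective (res (K := K) a x.1 x.2 L 0) := fun x => by
    obtain ⟨hinj, hc⟩ := res_injective_card (K := K) a π₀ L eL hd hℓ x.1 x.2
    haveI h1 : Finite (EtCoh.H (FinFr.ext K (𝟙 (Spec (CommRingCat.of k'))))
        ((EtCoh.pull (FinFr.extπ K (𝟙 _))).obj ((EtCoh.pull x.1).obj L.carrier)) 0) :=
      Nat.finite_of_card_ne_zero (hc.trans_ne (Nat.card_ne_zero.2 ⟨inferInstance, inferInstance⟩))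
    haveI h2 : Finite (EtCoh.H (FinFr.ext K a) ((EtCoh.pull (FinFr.extπ K a)).obj L.carrier) 0) :=
      Finite.of_injective _ hinj
    refine hinj.bijective_of_nat_card_le (le_of_eq_of_le hc ?_)
    have hinj' : Function.Injective fun r : Λ => r • (s - t) := smul_left_injective Λ hs
    exact @Nat.card_le_card_of_injective Λ _ h2 _ hinj'
  exact hxy ((locTrace_eq a x.1 x.2 L hcard (hbij x)).trans (locTrace_eq a y.1 y.2 L hcard (hbij y)).symm)

include eL hd hcard in
/-- **Vanishing.** -/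
theorem subsingleton_H_compact {P₀ : Scheme.{u}} (j : X₀ ⟶ P₀) [IsOpenImmersion j]
    (b : P₀ ⟶ Spec (CommRingCat.of k)) [IsProper b] (hj : j ≫ b = a)
    [AlgebraicGeometry.IsReduced (pullback π₀ (FinFr.extπ K a))]
    (e : pullback π₀ (FinFr.extπ K a) ≅ FinFr.ext K a)
    (he : e.hom ≫ FinFr.extStr K a = pullback.snd π₀ (FinFr.extπ K a) ≫ FinFr.extStr K a)
    (hℓ : (ringChar Λ).Prime) (x y : {x : Spec (CommRingCat.of k') ⟶ X₀ // x ≫ a = FinFr.specι k k'})
    (hxy : FinFr.locTrace (K := K) x.1 L ≠ FinFr.locTrace (K := K) y.1 L) (q : ℕ)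
    (hfin : ∀ (P : Scheme.{u}) (c : P ⟶ Spec (CommRingCat.of K)) (γ : FinFr.ext K a ⟶ P) [IsOpenImmersion γ],
      IsProper c → γ ≫ c = FinFr.extStr K a →
      Finite (EtCoh.H P ((EtShriek.extZero γ).obj (EtCoh.const (FinFr.ext K a) (ZMod (ringChar Λ)))) q)) :
    Subsingleton (EtCoh.H (FinFr.ext K b) (EtLam.pullback (FinFr.extπ K b) (FinFr.extZeroLam j L)).carrier q) := by
  let jK := FinFr.extHom K a j hj
  have hsq : IsPullback (FinFr.extπ K a) jK j (FinFr.extπ K b) := by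
    refine IsPullback.of_bot ?_ (FinFr.extHom_fst a j hj).symm (IsPullback.of_hasPullback b (FinFr.specι k K))
    have h1 : jK ≫ pullback.snd b (FinFr.specι k K) = FinFr.extStr K a :=
      (pullback.lift_snd _ _ _).trans (Category.comp_id _)
    rw [h1, hj]
    exact IsPullback.of_hasPullback a (FinFr.specι k K)
  haveI : IsOpenImmersion jK := MorphismProperty.of_isPullback hsq inferInstance
  haveI : IsProper (FinFr.extStr K b) := MorphismProperty.pullback_snd _ _ inferInstance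
  obtain ⟨ebc⟩ := EtPBCDLib.exists_shriekBC j (FinFr.extπ K b) jK (FinFr.extπ K a) hsq
  have hjK : jK ≫ FinFr.extStr K b = FinFr.extStr K a := (pullback.lift_snd _ _ _).trans (Category.comp_id _)
  let π := pullback.snd π₀ (FinFr.extπ K a)
  let eG : (EtCoh.pull π).obj ((EtCoh.pull (FinFr.extπ K a)).obj L.carrier) ≅ EtCoh.const _ Λ :=
    ((EtCore.pullComp π (FinFr.extπ K a)).symm ≪≫ EtCore.pullCongr pullback.condition.symm ≪≫
      EtCore.pullComp (pullback.fst π₀ (FinFr.extπ K a)) π₀).app L.carrier ≪≫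
      (EtCoh.pull _).mapIso eL ≪≫ EtCore.pullConst _ Λ
  haveI : Fact (ringChar Λ).Prime := ⟨hℓ⟩
  have hΛℓ : ∀ m : Λ, ringChar Λ • m = 0 := fun m => by rw [nsmul_eq_mul, ringChar.Nat.cast_ringChar, zero_mul]
  have hG : ringChar Λ • 𝟙 ((EtCoh.pull (FinFr.extπ K a)).obj L.carrier) = 0 :=
    nsmul_id_carrier (EtLam.pullback (FinFr.extπ K a) L)
  let γ := e.hom ≫ jK
  have hw : γ ≫ FinFr.extStr K b = π ≫ jK ≫ FinFr.extStr K b := by
    rw [Category.assoc, hjK, he]
  obtain ⟨eC⟩ := nonempty_H_compact_iso (FinFr.extStr K b) (FinFr.extStr K b) jK γ e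
    (Category.assoc _ _ _) Λ hℓ.pos hΛℓ q
  haveI : Finite (EtCoh.H (FinFr.ext K b) ((EtShriek.extZero jK).obj (EtCoh.const (FinFr.ext K a) Λ)) q) :=
    finite_H_compact_constM jK Λ (ringChar Λ) hΛℓ q (hfin _ (FinFr.extStr K b) jK inferInstance hjK)
  have h := subsingleton_of_cover (FinFr.extStr K b) (FinFr.extStr K b) jK γ π hw Λ hℓ.pos hΛℓ
    ((EtCoh.pull (FinFr.extπ K a)).obj L.carrier) hG eG hd (subsingleton_H_zero a π₀ L hcard eL hd hℓ x y hxy) q
    (Finite.of_equiv _ eC.symm.toEquiv) (Nat.card_congr eC.toEquiv).le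
  obtain ⟨e₁⟩ := EtPnCohLib.nonempty_H_congr (ebc.app L.carrier) q
  exact @Equiv.subsingleton _ _ e₁.symm.toEquiv h

end Zero

end LangShLib

end
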